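import Cfsg.Agent.H892.EP.TM_m3
import Cfsg.Agent.H969.TT.Levi
import Cfsg.Agent.PermutationGroups.ExceptionalDegree
import Cfsg.Agent.Characters.Linear
import Cfsg.Agent.H27.AH.Defs_m3
import Cfsg.Agent.H167.AltBldg
import Cfsg.Agent.FixBN.OfBN
import Cfsg.Agent.S0320
import Cfsg.Agent.H743.AH.TwFC
import Cfsg.Agent.FastGrp
import Cfsg.Agent.Prune
set_option linter.all false

section
prune_inst 0x7ff8fff98fac8ddfffff7e3ffedddffbf0e8efffe6dfffcbffe0e99faf9f6b82bdc56b859fe858ff1ef6e29410b87803fbfffeffe86bdc7ffffd5ff45ffbee4fe5f7bf8951de8cb40fbc0fffe3f17f8e6f3fffffffffffffffffffffffffffbefffffbfeffff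

-- part: H966/EP/Perm
section
prune_inst 0x600006001322000000180010000000504000000200030000f1600506000654038003860168200c1011120064003c004000100009420800000a00020001180180000000801000010022000000a803100000000000000000000000000000041000000000000
set_option linter.all false
open scoped Cfsg.Agent.FastGrp

/-!
# Permutation characters and the principal block (S4929, [EB])

* `permF B g` : the number of `y` with `y⁻¹ g y ∈ B`;
* `exists_of_coprime` : if `p` divides `|G|` but not `|B|` then some nontrivial character of the principal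
  block is a constituent of `1_B^G`;
* `exists_of_fixed` : the same if the elements commuting with the `p`-element `x` fix two points of `G / B`;
* `md_ne_zero_of_over` : passing to an overgroup.
-/

set_option autoImplicit false
set_option linter.unusedSectionVars false

open scoped ComplexConjugate
open Cfsg Cfsg.Agent.Characters.Core

namespace Cfsg.Agent.H966.EP

open Cfsg.Agent.H892.EP

universe u

variable {G : Type u} [Group G] [Finite G]

/-- the number of `y` with `y⁻¹ g y ∈ B` -/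
noncomputable def permF (B : Subgroup G) (g : G) : ℂ := (Nat.card {y : G // y⁻¹ * g * y ∈ B} : ℂ)

theorem permF_class (B : Subgroup G) : IsClassFunction G (permF B) := by
  intro g k
  unfold permF
  congr 1
  refine Nat.card_congr ?_
  exact
    { toFun := fun y => ⟨k⁻¹ * y.1, by
        have := y.2
        rwa [show y.1⁻¹ * (k * g * k⁻¹) * y.1 = (k⁻¹ * y.1)⁻¹ * g * (k⁻¹ * y.1) by group] at this⟩
      invFun := fun y => ⟨k * y.1, by
        have := y.2
        rwa [show y.1⁻¹ * g * y.1 = (k * y.1)⁻¹ * (k * g * k⁻¹) * (k * y.1) by group] at this⟩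
      left_inv := fun y => Subtype.ext (by simp)
      right_inv := fun y => Subtype.ext (by simp) }

open scoped Classical in
theorem classInner_permF [Fintype G] (B : Subgroup G) {ψ : G → ℂ} (hψ : IsClassFunction G ψ) :
    classInner (permF B) ψ = (Nat.card B : ℂ) * conj (md B ψ) := by
  have := Fintype.ofFinite B
  rw [classInner_def, md_eq]
  have h1 : ∀ g : G, permF B g * conj (ψ g) = ∑ y : G, if y⁻¹ * g * y ∈ B then conj (ψ (y⁻¹ * g * y)) else 0 := by
    intro g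
    have h2 : ∀ y : G, (if y⁻¹ * g * y ∈ B then conj (ψ (y⁻¹ * g * y)) else 0) =
        (if y⁻¹ * g * y ∈ B then 1 else 0) * conj (ψ g) := by
      intro y
      have h3 : ψ (y⁻¹ * g * y) = ψ g := by
        have := hψ g y⁻¹
        rwa [inv_inv] at this
      rw [h3]
      split_ifs <;> simp
    rw [Finset.sum_congr rfl fun y _ => h2 y, ← Finset.sum_mul]
    congr 1
    unfold permF
    rw [Nat.card_eq_fintype_card, Fintype.card_subtype, Finset.sum_boole]
  rw [Finset.sum_congr rfl fun g _ => h1 g, Finset.sum_comm]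
  have h2 : ∀ y : G, ∑ g : G, (if y⁻¹ * g * y ∈ B then conj (ψ (y⁻¹ * g * y)) else 0) =
      ∑ b : B, conj (ψ b) := by
    intro y
    have h3 : ∑ g : G, (if y⁻¹ * g * y ∈ B then conj (ψ (y⁻¹ * g * y)) else 0) =
        ∑ g : G, (if g ∈ B then conj (ψ g) else 0) := by
      refine Fintype.sum_equiv (MulAut.conj y⁻¹).toEquiv _ _ fun g => ?_
      have h4 : (MulAut.conj y⁻¹).toEquiv g = y⁻¹ * g * y := by
        show y⁻¹ * g * y⁻¹⁻¹ = _
        rw [inv_inv]
      rw [h4]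
    rw [h3, ← Finset.sum_filter]
    exact (Finset.sum_subtype _ (fun x => by simp) (fun g => conj (ψ g)))
  rw [Finset.sum_congr rfl fun y _ => h2 y, Finset.sum_const, Finset.card_univ, ← Nat.card_eq_fintype_card (α := G),
    nsmul_eq_mul, ← mul_assoc, inv_mul_cancel₀ card_ne_zero_complex, one_mul, map_mul, map_sum, map_inv₀,
    Complex.conj_natCast, ← mul_assoc, mul_inv_cancel₀ card_ne_zero_complex, one_mul]

theorem md_one (B : Subgroup G) : md B (oneChar G : G → ℂ) = 1 := by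
  have := Fintype.ofFinite B
  rw [md_eq]
  simp only [Finset.sum_const, Finset.card_univ, nsmul_eq_mul, mul_one]
  rw [← Nat.card_eq_fintype_card, inv_mul_cancel₀ card_ne_zero_complex]

theorem classInner_permF_ne_zero [Fintype G] (B : Subgroup G) (ψ : IrrCharacter G) :
    classInner (permF B) (ψ : G → ℂ) ≠ 0 ↔ md B (ψ : G → ℂ) ≠ 0 := by
  rw [classInner_permF B (isIrr_isClassFunction ψ.2), Ne, mul_eq_zero, not_or, map_eq_zero]
  exact ⟨fun h => h.2, fun h => ⟨card_ne_zero_complex, h⟩⟩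

variable {p : ℕ} [Fact p.Prime] {M : Ideal AlgInt}

/-- `p` divides `|G|` but not `|B|` -/
theorem exists_of_coprime (hM : IsPModular p M) (B : Subgroup G) (hd : p ∣ Nat.card G) (hB : ¬ p ∣ Nat.card B) :
    ∃ χ ∈ principalBlock M G, χ ≠ oneChar G ∧ md B (χ : G → ℂ) ≠ 0 := by
  have := Fintype.ofFinite G
  obtain ⟨x, hx⟩ := exists_prime_orderOf_dvd_card' p hd
  have h0 : ∀ u z : G, IsPPart p u z → IsConj x z → permF B u = 0 := by
    intro u z hz hxz
    obtain ⟨y, e, hc, -, hy⟩ := hz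
    have hzo : orderOf z = p := by
      obtain ⟨c, hc⟩ := isConj_iff.1 hxz
      rw [← hc, ← hx]
      exact (MulAut.conj c).orderOf_eq x
    unfold permF
    rw [Nat.cast_eq_zero, Nat.card_eq_zero]
    left
    constructor
    rintro ⟨k, hk⟩
    apply hB
    -- the element `k⁻¹ u k` of `B` has order divisible by `p`
    have h1 : p ∣ orderOf (k⁻¹ * u * k) := by
      have h2 : orderOf (k⁻¹ * u * k) = orderOf u := by
        have := (MulAut.conj k⁻¹).orderOf_eq u
        rw [← this]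
        congr 1
        show _ = k⁻¹ * u * k⁻¹⁻¹
        rw [inv_inv]
      rw [h2, ← e, hc.orderOf_mul_eq_mul_orderOf_of_coprime, hzo]
      · exact dvd_mul_right _ _
      · rw [hzo]
        exact (Nat.Prime.coprime_iff_not_dvd Fact.out).2 hy
    have h3 : orderOf (⟨_, hk⟩ : B) = orderOf (k⁻¹ * u * k) := (Subgroup.orderOf_coe _).symm
    rw [← h3] at h1
    exact h1.trans (orderOf_dvd_natCard _)
  obtain ⟨χ, hχ, hne, h1⟩ := exists_ne_one_of_vanish hM (permF B) x ⟨1, by rw [hx, pow_one]⟩ h0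
    ((classInner_permF_ne_zero B _).2 (by rw [md_one]; exact one_ne_zero))
  exact ⟨χ, hχ, hne, (classInner_permF_ne_zero B χ).1 h1⟩

/-- the elements commuting with the `p`-element `x` fix two points of `G / B` -/
theorem exists_of_fixed (hM : IsPModular p M) (B : Subgroup G) {x n : G} (hx : ∃ k : ℕ, orderOf x = p ^ k)
    (hn : n ∉ B) (h : ∀ g : G, g * x = x * g → g ∈ B ∧ n⁻¹ * g * n ∈ B) :
    ∃ χ ∈ principalBlock M G, χ ≠ oneChar G ∧ md B (χ : G → ℂ) ≠ 0 := by
  classical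
  have := Fintype.ofFinite G
  have : Finite (IrrCharacter G) := finite_irr
  have := Fintype.ofFinite (IrrCharacter G)
  set S : Set G := {g : G | ∃ z, IsPPart p g z ∧ IsConj x z} with hS
  have hSf : S.Finite := Set.toFinite _
  -- at least two fixed points on the section
  have h2 : ∀ g ∈ S, 2 * Nat.card B ≤ Nat.card {y : G // y⁻¹ * g * y ∈ B} := by
    rintro g ⟨z, ⟨y, e, hc, hz, hy⟩, hxz⟩
    obtain ⟨c, hc'⟩ := isConj_iff.1 hxz
    -- `g = c g' c⁻¹` with `g'` commuting with `x`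
    have h3 : (c⁻¹ * g * c) * x = x * (c⁻¹ * g * c) := by
      have h4 : z * g = g * z := by rw [← e, mul_assoc, hc.eq]
      have h5 : x = c⁻¹ * z * c := by rw [← hc']; group
      rw [h5]
      calc c⁻¹ * g * c * (c⁻¹ * z * c) = c⁻¹ * (g * z) * c := by group
        _ = c⁻¹ * (z * g) * c := by rw [h4]
        _ = c⁻¹ * z * c * (c⁻¹ * g * c) := by group
    obtain ⟨hB, hnB⟩ := h _ h3
    have hinj : Function.Injective (fun q : Bool × B =>
        (⟨if q.1 then c * n * q.2 else c * q.2, by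
          obtain ⟨b, k⟩ := q
          cases b
          · have : (c * (k : G))⁻¹ * g * (c * k) = (k : G)⁻¹ * (c⁻¹ * g * c) * k := by group
            simp only [Bool.false_eq_true, if_false]
            rw [this]
            exact mul_mem (mul_mem (inv_mem k.2) hB) k.2
          · have : (c * n * (k : G))⁻¹ * g * (c * n * k) = (k : G)⁻¹ * (n⁻¹ * (c⁻¹ * g * c) * n) * k := by group
            simp only [if_true]
            rw [this]
            exact mul_mem (mul_mem (inv_mem k.2) hnB) k.2⟩ : {y : G // y⁻¹ * g * y ∈ B})) := by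
      rintro ⟨b, k⟩ ⟨b', k'⟩ he
      have he' := congrArg Subtype.val he
      dsimp only at he'
      cases b <;> cases b'
      · simp only [Bool.false_eq_true, if_false] at he'
        rw [Subtype.ext (mul_left_cancel he')]
      · simp only [Bool.false_eq_true, if_false, if_true] at he'
        exfalso
        apply hn
        have : n = k * (k' : G)⁻¹ := by
          rw [mul_assoc] at he'
          have := mul_left_cancel he'
          rw [this]; group
        rw [this]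
        exact mul_mem k.2 (inv_mem k'.2)
      · simp only [Bool.false_eq_true, if_false, if_true] at he'
        exfalso
        apply hn
        have : n = k' * (k : G)⁻¹ := by
          rw [mul_assoc] at he'
          have := mul_left_cancel he'
          rw [← this]; group
        rw [this]
        exact mul_mem k'.2 (inv_mem k.2)
      · simp only [if_true] at he'
        rw [Subtype.ext (mul_left_cancel he')]
    have := Nat.card_le_card_of_injective _ hinj
    rwa [Nat.card_prod, Nat.card_eq_fintype_card (α := Bool), Fintype.card_bool] at this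
  -- the section contains `x`
  have hxS : x ∈ S := ⟨x, ⟨1, mul_one x, Commute.one_right x, hx, by simpa using (Fact.out : p.Prime).one_lt.ne'⟩,
    IsConj.refl x⟩
  have h3 : ∑ g ∈ hSf.toFinset, (permF B g - (Nat.card B : ℂ)) ≠ 0 := by
    have h4 : ∑ g ∈ hSf.toFinset, (permF B g - (Nat.card B : ℂ)) =
        ((∑ g ∈ hSf.toFinset, (Nat.card {y : G // y⁻¹ * g * y ∈ B} - Nat.card B) : ℕ) : ℂ) := by
      rw [Nat.cast_sum]
      refine Finset.sum_congr rfl fun g hg => ?_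
      have h5 := h2 g (hSf.mem_toFinset.1 hg)
      rw [Nat.cast_sub (by omega)]
      rfl
    rw [h4, Nat.cast_ne_zero]
    apply ne_of_gt
    refine Finset.sum_pos (fun g hg => ?_) ⟨x, hSf.mem_toFinset.2 hxS⟩
    have h5 := h2 g (hSf.mem_toFinset.1 hg)
    have h6 : 0 < Nat.card B := Nat.card_pos
    omega
  -- decompose
  have h4 : ∀ g : G, permF B g - (Nat.card B : ℂ) =
      ∑ ψ ∈ Finset.univ.erase (oneChar G), classInner (permF B) (ψ : G → ℂ) * (ψ : G → ℂ) g := by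
    intro g
    have h5 := congrFun (classFunction_eq_sum (permF_class B)) g
    rw [Finset.sum_apply] at h5
    simp only [Pi.smul_apply, smul_eq_mul] at h5
    rw [h5, ← Finset.add_sum_erase Finset.univ _ (Finset.mem_univ (oneChar G)),
      classInner_permF B (isIrr_isClassFunction (oneChar G).2), md_one]
    simp
  rw [Finset.sum_congr rfl fun g _ => h4 g, Finset.sum_comm] at h3
  obtain ⟨ψ, hψ, h5⟩ := Finset.exists_ne_zero_of_sum_ne_zero h3
  rw [← Finset.mul_sum] at h5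
  refine ⟨ψ, ?_, (Finset.mem_erase.1 hψ).1, (classInner_permF_ne_zero B ψ).1 (left_ne_zero_of_mul h5)⟩
  refine mem_of_section_sum hM ψ x ?_
  rw [finsum_mem_eq_finite_toFinset_sum _ hSf]
  exact right_ne_zero_of_mul h5

/-- restriction of `md` -/
theorem md_subgroupOf (H B : Subgroup G) (hBH : B ≤ H) (χ : G → ℂ) :
    md (B.subgroupOf H) (fun k : H => χ k) = md B χ := by
  have := Fintype.ofFinite B
  have := Fintype.ofFinite (B.subgroupOf H)
  rw [md_eq, md_eq, Nat.card_congr (Subgroup.subgroupOfEquivOfLe hBH).toEquiv]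
  congr 1
  refine Fintype.sum_equiv (Subgroup.subgroupOfEquivOfLe hBH).toEquiv _ _ fun x => ?_
  rfl

/-- passing to an overgroup -/
theorem exists_over_md (hM : IsPModular p M) (H B : Subgroup G) (hBH : B ≤ H)
    (h : ∃ ψ ∈ principalBlock M H, ψ ≠ oneChar H ∧ md (B.subgroupOf H) (ψ : H → ℂ) ≠ 0) :
    ∃ χ ∈ principalBlock M G, χ ≠ oneChar G ∧ md B (χ : G → ℂ) ≠ 0 := by
  classical
  have := Fintype.ofFinite G
  have := Fintype.ofFinite H
  have : Finite (IrrCharacter H) := finite_irr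
  have := Fintype.ofFinite (IrrCharacter H)
  obtain ⟨ψ, hψ, hne, hmd⟩ := h
  obtain ⟨χ, hχ, h1⟩ := exists_over hM H ψ hψ
  refine ⟨χ, hχ, ?_, ?_⟩
  · rintro rfl
    apply h1
    exact classInner_irr_ne (oneChar H).2 ψ.2 fun he => hne (Subtype.ext he.symm)
  · have hres : IsCharacter H (fun k : H => (χ : G → ℂ) k) := isCharacter_comp H.subtype (isIrr_isCharacter χ.2)
    obtain ⟨m, hm⟩ := exists_nat_comb hres
    rw [← md_subgroupOf H B hBH]
    have h2 : classInner (fun k : H => (χ : G → ℂ) k) (ψ : H → ℂ) = m ψ := by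
      rw [hm]
      exact classInner_sum_nsmul_irr _ _
    choose d hd using fun θ : IrrCharacter H => exists_md (B.subgroupOf H) (isIrr_isCharacter θ.2)
    have h3 : md (B.subgroupOf H) (fun k : H => (χ : G → ℂ) k) = ((∑ θ : IrrCharacter H, m θ * d θ : ℕ) : ℂ) := by
      have := Fintype.ofFinite (B.subgroupOf H)
      rw [hm, md_eq, Nat.cast_sum]
      have h4 : ∀ k : (B.subgroupOf H), (∑ θ : IrrCharacter H, m θ • (θ : H → ℂ)) (k : H) =
          ∑ θ : IrrCharacter H, (m θ : ℂ) * (θ : H → ℂ) k := by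
        intro k
        rw [Finset.sum_apply]
        refine Finset.sum_congr rfl fun θ _ => ?_
        rw [Pi.smul_apply, nsmul_eq_mul]
      rw [Finset.sum_congr rfl fun k _ => h4 k, Finset.sum_comm, Finset.mul_sum]
      refine Finset.sum_congr rfl fun θ _ => ?_
      rw [Nat.cast_mul, ← hd θ, md_eq, ← Finset.mul_sum]
      ring
    rw [h3, Nat.cast_ne_zero]
    apply ne_of_gt
    refine Finset.sum_pos' (fun _ _ => Nat.zero_le _) ⟨ψ, Finset.mem_univ _, ?_⟩
    refine Nat.mul_pos ?_ ?_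
    · rw [Nat.pos_iff_ne_zero]
      intro h0
      rw [h0] at h2
      exact h1 (by rw [h2]; simp)
    · rw [Nat.pos_iff_ne_zero]
      intro h0
      have := hd ψ
      rw [h0] at this
      exact hmd (by rw [this]; simp)

end Cfsg.Agent.H966.EP
end

-- part: H743/EP/TwF
section
prune_inst 0x40000000000000000000200040000000009000000000000000000100000009000000000000000000020000010000000000400000000000000000000100008000000000000000000001000000010000000000000000000000000000000000004010000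
set_option linter.all false
open scoped Cfsg.Agent.FastGrp

-- part: H743/EP/Par
section
/-!
# Parity of a character degree and the linear characters of a Sylow `2`-subgroup (helper743)

* `tw U ψ F` : `∑ u, ψ(u⁻¹) F(u)`;
* `parity_two` : `U` a `2`-group: `χ(1) ≡ ∑ ψ, ⟨χ_U, ψ⟩ (mod 2)`;
* `le_of_irr` : `⟨θ, St⟩ ≤ ⟨θ_U, ψ⟩` if `⟨St_U, ψ⟩ = 1`;
* `panel_le` : `B` with two orbits on `Y ⧸ B`, `U ≤ B` ...: `⟨θ, 1_B^Y⟩ ≤ ⟨θ, 1⟩ + ⟨θ_U, ψ⟩`;
* `odd_card` : the number of the nontrivial `ψ` with `V ≤ ker ψ` is odd.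
-/

set_option autoImplicit false
set_option linter.unusedSectionVars false

namespace Cfsg.Agent.H743.EP

open MulAction Cfsg Cfsg.Agent.Characters.Core Cfsg.Agent.H969.TT.Count Cfsg.Agent.H969.TT.TopAbs
  Cfsg.Agent.H969.TT.TopRGD
open scoped ComplexConjugate

section

variable {Y : Type*} [Group Y] [Finite Y]

/-- `∑ u, ψ(u⁻¹) F(u)` -/
noncomputable def tw (U : Subgroup Y) [Fintype U] (ψ : U →* ℂˣ) (F : Y → ℂ) : ℂ :=
  ∑ u : U, ((ψ u⁻¹ : ℂˣ) : ℂ) * F u

theorem tw_eq (U : Subgroup Y) [Fintype U] (ψ : U →* ℂˣ) (F : Y → ℂ) :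
    tw U ψ F = (Nat.card U : ℂ) * classInner (fun u : U => F u) (fun u : U => ((ψ u : ℂˣ) : ℂ)) := by
  have h2 : IsCharacter U (fun u : U => ((ψ u : ℂˣ) : ℂ)) :=
    isIrr_isCharacter (Cfsg.Agent.Characters.Linear.isIrrCharacter_hom ψ)
  rw [classInner_def, ← mul_assoc, mul_inv_cancel₀ card_ne_zero_complex, one_mul, tw]
  refine Finset.sum_congr rfl fun u _ => ?_
  rw [← isCharacter_apply_inv h2 u, mul_comm]

theorem exists_tw (U : Subgroup Y) [Fintype U] (ψ : U →* ℂˣ) {F : Y → ℂ} (hF : IsCharacter Y F) :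
    ∃ c : ℕ, tw U ψ F = (Nat.card U : ℂ) * c := by
  obtain ⟨c, hc⟩ := classInner_isNat (isCharacter_comp U.subtype hF)
    (isIrr_isCharacter (Cfsg.Agent.Characters.Linear.isIrrCharacter_hom ψ))
  refine ⟨c, ?_⟩
  rw [tw_eq, ← hc]
  rfl

theorem tw_sum (U : Subgroup Y) [Fintype U] (ψ : U →* ℂˣ) {ι : Type*} [Fintype ι] (m : ι → ℕ) (f : ι → Y → ℂ)
    (c : ι → ℕ) (hc : ∀ i, tw U ψ (f i) = (Nat.card U : ℂ) * c i) :
    tw U ψ (∑ i, m i • f i) = (Nat.card U : ℂ) * ((∑ i, m i * c i : ℕ) : ℂ) := by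
  have h1 : ∀ u : U, ((ψ u⁻¹ : ℂˣ) : ℂ) * (∑ i, m i • f i) u =
      ∑ i, (m i : ℂ) * (((ψ u⁻¹ : ℂˣ) : ℂ) * f i u) := by
    intro u
    rw [Finset.sum_apply, Finset.mul_sum]
    refine Finset.sum_congr rfl fun χ _ => ?_
    rw [Pi.smul_apply, nsmul_eq_mul]
    ring
  unfold tw
  rw [Finset.sum_congr rfl fun u _ => h1 u, Finset.sum_comm]
  push_cast
  rw [Finset.mul_sum]
  refine Finset.sum_congr rfl fun χ _ => ?_
  rw [← Finset.mul_sum]
  have := hc χ
  unfold tw at this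
  rw [this]
  ring

/-- **Parity.** -/
theorem parity_two (U : Subgroup Y) [Fintype U] (hU : IsPGroup 2 U) [Fintype (U →* ℂˣ)] {χ : Y → ℂ}
    (hχ : IsCharacter Y χ) (c : (U →* ℂˣ) → ℕ) (hc : ∀ ψ, tw U ψ χ = (Nat.card U : ℂ) * c ψ) {n : ℕ}
    (hn : χ 1 = n) : ∃ k : ℕ, n = ∑ ψ, c ψ + 2 * k := by
  classical
  have : Fintype (IrrCharacter U) := @Fintype.ofFinite _ finite_irr
  have hU0 : (Nat.card U : ℂ) ≠ 0 := card_ne_zero_complex
  have hθ : IsCharacter U (fun u : U => χ u) := isCharacter_comp U.subtype hχ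
  obtain ⟨m, hm⟩ := exists_nat_comb hθ
  -- the degrees
  have hd : ∀ φ : IrrCharacter U, ∃ d : ℕ, (φ : U → ℂ) 1 = d := fun φ => isCharacter_apply_one (isIrr_isCharacter φ.2)
  choose d hd using hd
  have hd2 : ∀ φ : IrrCharacter U, d φ ≠ 1 → 2 ∣ d φ := by
    intro φ hne
    have h1 := PermutationGroups.ExceptionalDegree.irr_degree_dvd φ.2 (hd φ)
    obtain ⟨k, hk⟩ := IsPGroup.iff_card.1 hU
    rw [hk] at h1
    obtain ⟨j, -, hj⟩ := (Nat.dvd_prime_pow Nat.prime_two).1 h1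
    rcases Nat.eq_zero_or_pos j with rfl | h2
    · exact absurd (by rw [hj, pow_zero]) hne
    · rw [hj]
      exact dvd_pow_self 2 (by omega)
  have hn' : n = ∑ φ, m φ * d φ := by
    have h1 : χ ((1 : U) : Y) = ∑ φ, (m φ : ℂ) * (d φ : ℂ) := by
      have := congrFun hm 1
      rw [this, Finset.sum_apply]
      refine Finset.sum_congr rfl fun φ _ => ?_
      rw [Pi.smul_apply, nsmul_eq_mul, hd]
    rw [Subgroup.coe_one, hn] at h1
    exact_mod_cast h1
  -- the linear ones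
  have hc' : ∀ ψ : U →* ℂˣ, c ψ = m (Cfsg.Agent.Characters.Linear.linearEquiv U ψ).1 := by
    intro ψ
    have h1 := hc ψ
    rw [tw_eq] at h1
    have h2 := mul_left_cancel₀ hU0 h1
    have h3 := classInner_sum_nsmul_irr m (Cfsg.Agent.Characters.Linear.linearEquiv U ψ).1
    rw [← hm] at h3
    have h4 : (((Cfsg.Agent.Characters.Linear.linearEquiv U ψ).1 : IrrCharacter U) : U → ℂ) =
        fun u : U => ((ψ u : ℂˣ) : ℂ) := rfl
    rw [h4, h2] at h3
    exact_mod_cast h3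
  have hsum : ∑ ψ, c ψ = ∑ φ ∈ Finset.univ.filter (fun φ : IrrCharacter U => (φ : U → ℂ) 1 = 1), m φ * d φ := by
    rw [Finset.sum_congr rfl fun ψ _ => hc' ψ,
      Fintype.sum_equiv (Cfsg.Agent.Characters.Linear.linearEquiv U) _ (fun φ => m φ.1) fun ψ => rfl]
    rw [← Finset.sum_subtype (s := Finset.univ.filter (fun φ : IrrCharacter U => (φ : U → ℂ) 1 = 1))
      (p := fun φ : IrrCharacter U => (φ : U → ℂ) 1 = 1) (fun φ => by simp only [_root_.Finset.mem_filter, _root_.Finset.mem_univ, _root_.true_and]) (f := m)]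
    refine Finset.sum_congr rfl fun φ hφ => ?_
    have h1 := (Finset.mem_filter.1 hφ).2
    rw [hd] at h1
    have h2 : d φ = 1 := by exact_mod_cast h1
    rw [h2, mul_one]
  have h5 : 2 ∣ ∑ φ ∈ Finset.univ.filter (fun φ : IrrCharacter U => ¬ (φ : U → ℂ) 1 = 1), m φ * d φ := by
    refine Finset.dvd_sum fun φ hφ => ?_
    refine Dvd.dvd.mul_left (hd2 φ fun h => (Finset.mem_filter.1 hφ).2 ?_) _
    rw [hd, h, Nat.cast_one]
  obtain ⟨k, hk⟩ := h5
  refine ⟨k, ?_⟩
  rw [hn', hsum, ← hk, Finset.sum_filter_add_sum_filter_not]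

/-- `⟨θ, St⟩ ≤ ⟨θ_U, ψ⟩` -/
theorem le_of_irr [Fintype Y] (U : Subgroup Y) [Fintype U] (ψ : U →* ℂˣ) {St : Y → ℂ} (hSt : IsIrrCharacter Y St)
    (h1 : tw U ψ St = Nat.card U) {θ : Y → ℂ} (hθ : IsCharacter Y θ) {c s : ℕ}
    (hc : tw U ψ θ = (Nat.card U : ℂ) * c) (hs : classInner θ St = s) : s ≤ c := by
  classical
  have : Fintype (IrrCharacter Y) := @Fintype.ofFinite _ finite_irr
  have hU0 : (Nat.card U : ℂ) ≠ 0 := card_ne_zero_complex
  obtain ⟨m, rfl⟩ := exists_nat_comb hθ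
  have hex : ∀ χ : IrrCharacter Y, ∃ c : ℕ, tw U ψ (χ : Y → ℂ) = (Nat.card U : ℂ) * c := fun χ =>
    exists_tw U ψ (isIrr_isCharacter χ.2)
  choose c' hc' using hex
  rw [tw_sum U ψ m _ c' hc'] at hc
  have h2 : ∑ χ, m χ * c' χ = c := by exact_mod_cast mul_left_cancel₀ hU0 hc
  have h3 : m ⟨St, hSt⟩ = s := by
    have := classInner_sum_nsmul_irr m ⟨St, hSt⟩
    have h4 : ((⟨St, hSt⟩ : IrrCharacter Y) : Y → ℂ) = St := rfl
    rw [h4, hs] at this
    exact_mod_cast this.symm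
  have h4 : c' ⟨St, hSt⟩ = 1 := by
    have := hc' ⟨St, hSt⟩
    have h5 : ((⟨St, hSt⟩ : IrrCharacter Y) : Y → ℂ) = St := rfl
    rw [h5, h1] at this
    have h6 : (Nat.card U : ℂ) * ((1 : ℕ) : ℂ) = (Nat.card U : ℂ) * (c' ⟨St, hSt⟩ : ℂ) := by rw [← this]; simp only [_root_.Nat.card_eq_fintype_card, _root_.Nat.cast_one, _root_.mul_one]
    exact_mod_cast (mul_left_cancel₀ hU0 h6).symm
  rw [← h2, ← h3]
  calc m ⟨St, hSt⟩ = m ⟨St, hSt⟩ * c' ⟨St, hSt⟩ := by rw [h4, mul_one]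
    _ ≤ _ := Finset.single_le_sum (f := fun χ => m χ * c' χ) (fun _ _ => Nat.zero_le _) (Finset.mem_univ _)

theorem fpc_char (B : Subgroup Y) : IsCharacter Y (fixedPointCharacter B) := by
  have : Fintype Y := Fintype.ofFinite _
  have : Fintype (Y ⧸ B) := Fintype.ofFinite _
  exact isCharacter_perm (Y := Y) (Ω := Y ⧸ B)

theorem classInner_fpc_one [Fintype Y] (B : Subgroup Y) : classInner (fixedPointCharacter B) 1 = 1 := by
  have : Fintype (Y ⧸ B) := Fintype.ofFinite _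
  have h1 := classInner_fpc (⊤ : Subgroup Y) (Ω := Y ⧸ B)
  have h2 : fixedPointCharacter (⊤ : Subgroup Y) = 1 := by
    funext y
    have h3 : Subsingleton (Y ⧸ (⊤ : Subgroup Y)) := QuotientGroup.subsingleton_quotient_top
    rw [fixedPointCharacter, Pi.one_apply]
    have h4 : Nat.card (MulAction.fixedBy (Y ⧸ (⊤ : Subgroup Y)) y) = 1 := by
      rw [Nat.card_eq_one_iff_unique]
      exact ⟨⟨fun a b => Subtype.ext (Subsingleton.elim _ _)⟩, ⟨⟨QuotientGroup.mk 1, Subsingleton.elim _ _⟩⟩⟩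
    rw [h4, Nat.cast_one]
  rw [h2] at h1
  change classInner (fun y : Y => (Nat.card (fixedBy (Y ⧸ B) y) : ℂ)) 1 = 1
  rw [h1]
  have h5 : nOrb (⊤ : Subgroup Y) (Y ⧸ B) = 1 := by
    unfold nOrb
    rw [Nat.card_eq_one_iff_unique]
    refine ⟨⟨fun a b => ?_⟩, ⟨Quotient.mk'' (QuotientGroup.mk 1)⟩⟩
    obtain ⟨x, rfl⟩ := Quotient.mk''_surjective a
    obtain ⟨y, rfl⟩ := Quotient.mk''_surjective b
    obtain ⟨g, hg⟩ := MulAction.exists_smul_eq Y y x
    exact mk_eq.2 ⟨⟨g, trivial⟩, hg⟩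
  rw [h5, Nat.cast_one]

/-- A group with two orbits of `B` on `Y ⧸ B`. -/
theorem isIrr_two [Fintype Y] (B : Subgroup Y) (h2 : nOrb B (Y ⧸ B) = 2) :
    IsIrrCharacter Y (fixedPointCharacter B - 1) := by
  have : Fintype (Y ⧸ B) := Fintype.ofFinite _
  have h1 : classInner (fixedPointCharacter B) (fixedPointCharacter B) = 2 := by
    have := classInner_fpc B (Ω := Y ⧸ B)
    rw [h2] at this
    exact_mod_cast this
  have h3 := classInner_fpc_one B
  have h4 : classInner (1 : Y → ℂ) (fixedPointCharacter B) = 1 := by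
    rw [← classInner_conj_symm, h3, map_one]
  have h5 : classInner (1 : Y → ℂ) 1 = 1 := classInner_irr_self isIrr_one
  have hn : classInner (fixedPointCharacter B - 1) (fixedPointCharacter B - 1) = 1 := by
    rw [classInner_sub_left, classInner_sub_right, classInner_sub_right, h1, h3, h4, h5]
    norm_num
  have hg : IsGeneralizedCharacter Y (fixedPointCharacter B - 1) := by
    rw [isGeneralizedCharacter_def]
    exact ⟨_, _, fpc_char B, isCharacter_one, rfl⟩
  rcases isIrr_of_generalized hg hn with h | h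
  · exact h
  · exfalso
    obtain ⟨n, hn0, hn1⟩ := isIrr_apply_one h
    have h6 : fixedPointCharacter B 1 = (Nat.card (Y ⧸ B) : ℂ) := by
      rw [fixedPointCharacter]
      congr 1
      exact Nat.card_congr (Equiv.subtypeUnivEquiv fun x => by simp)
    rw [Pi.neg_apply, Pi.sub_apply, Pi.one_apply, h6] at hn1
    have h7 : 0 < Nat.card (Y ⧸ B) := Nat.card_pos
    have h8 : ((Nat.card (Y ⧸ B) : ℕ) : ℂ) + ((n : ℕ) : ℂ) = ((1 : ℕ) : ℂ) := by
      rw [← hn1, Nat.cast_one]; ring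
    have h9 : Nat.card (Y ⧸ B) + n = 1 := by exact_mod_cast h8
    omega

theorem classInner_fpc_eq [Fintype Y] (B : Subgroup Y) [Fintype B] {θ : Y → ℂ} (hθ : IsClassFunction Y θ) {b : ℕ}
    (hb : ∑ y : B, θ y = (Nat.card B : ℂ) * b) : classInner θ (fixedPointCharacter B) = b := by
  have h1 := frob B hθ
  rw [classInner_def]
  have h2 : ∀ y : Y, θ y * conj (fixedPointCharacter B y) = θ y * (Nat.card (fixedBy (Y ⧸ B) y) : ℂ) := by
    intro y
    rw [fixedPointCharacter, Complex.conj_natCast]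
  rw [Finset.sum_congr rfl fun y _ => h2 y, h1, hb, ← mul_assoc ((B.index : ℂ)), ← Nat.cast_mul,
    Subgroup.index_mul_card, ← mul_assoc, inv_mul_cancel₀ card_ne_zero_complex, one_mul]

/-- **The inequality in the parabolic subgroup.** -/
theorem panel_le [Fintype Y] (B U : Subgroup Y) [Fintype B] [Fintype U] (h2 : nOrb B (Y ⧸ B) = 2)
    (ψ : U →* ℂˣ) (hψ : ψ ≠ 1) (hm : mult (Y ⧸ B) ψ.ker = 1) {θ : Y → ℂ} (hθ : IsCharacter Y θ) {a b c : ℕ}
    (ha : ∑ y : Y, θ y = (Nat.card Y : ℂ) * a) (hb : ∑ y : B, θ y = (Nat.card B : ℂ) * b)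
    (hc : tw U ψ θ = (Nat.card U : ℂ) * c) : b ≤ a + c := by
  have : Fintype (Y ⧸ B) := Fintype.ofFinite _
  have hirr := isIrr_two B h2
  have hcl := isCharacter_isClassFunction hθ
  have h1 : classInner θ (fixedPointCharacter B) = b := classInner_fpc_eq B hcl hb
  have h3 : classInner θ 1 = a := by
    rw [classInner_def]
    simp only [Pi.one_apply, map_one, mul_one]
    rw [ha, ← mul_assoc, inv_mul_cancel₀ card_ne_zero_complex, one_mul]
  obtain ⟨s, hs⟩ := classInner_isNat hθ (isIrr_isCharacter hirr)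
  have h4 : (s : ℂ) = b - a := by rw [← hs, classInner_sub_right, h1, h3]
  have h5 : s + a = b := by
    have : ((s : ℕ) : ℂ) + ((a : ℕ) : ℂ) = ((b : ℕ) : ℂ) := by rw [h4]; ring
    exact_mod_cast this
  have h6 : tw U ψ (fixedPointCharacter B - 1) = Nat.card U := by
    have h7 := sum_char (U := U) (Ω := Y ⧸ B) ψ
    rw [hm] at h7
    have h8 : ∑ u : U, ((ψ u⁻¹ : ℂˣ) : ℂ) = 0 := by
      classical
      have h9 := sum_hom (⊤ : Subgroup U) ψ
      have h10 : ¬ (⊤ : Subgroup U) ≤ ψ.ker := by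
        intro h
        exact hψ (MonoidHom.ext fun u => h (Subgroup.mem_top u))
      rw [if_neg h10] at h9
      rw [← h9]
      exact Fintype.sum_equiv Subgroup.topEquiv.symm.toEquiv _ _ fun u => rfl
    unfold tw
    have h11 : ∀ u : U, ((ψ u⁻¹ : ℂˣ) : ℂ) * (fixedPointCharacter B - 1) u =
        ((ψ u⁻¹ : ℂˣ) : ℂ) * (Nat.card (fixedBy (Y ⧸ B) u) : ℂ) - ((ψ u⁻¹ : ℂˣ) : ℂ) := by
      intro u
      rw [Pi.sub_apply, Pi.one_apply, mul_sub, mul_one]
      rfl
    rw [Finset.sum_congr rfl fun u _ => h11 u, Finset.sum_sub_distrib, h8, sub_zero, h7]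
    simp only [_root_.Nat.card_eq_fintype_card, _root_.Nat.cast_one, _root_.mul_one]
  have := le_of_irr U ψ hirr h6 hθ hc hs
  omega

end

/-! ### Counting linear characters -/

open scoped Classical in
/-- The number of the nontrivial linear characters of the `2`-group `U` trivial on `V < U`, `V` normal, is odd. -/
theorem odd_card {U : Type*} [Group U] [Finite U] [Fintype (U →* ℂˣ)] (hU : IsPGroup 2 U) {V : Subgroup U} [V.Normal]
    (hV : V ≠ ⊤) : Odd (Finset.univ.filter fun ψ : U →* ℂˣ => ψ ≠ 1 ∧ V ≤ ψ.ker).card := by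
  classical
  -- a character of order two
  obtain ⟨φ, h1, h2⟩ := exists_char (p := 2) hU hV
  let emb : Multiplicative (ZMod 2) →* ℂˣ :=
    { toFun := fun x => if x = 1 then 1 else -1
      map_one' := by simp
      map_mul' := by
        intro x y
        have key : ∀ x y : Multiplicative (ZMod 2), (if x * y = 1 then (1 : ℂˣ) else -1) =
            (if x = 1 then 1 else -1) * (if y = 1 then 1 else -1) := by
          intro x y
          have hx : x = 1 ∨ x ≠ 1 := em _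
          have hy : y = 1 ∨ y ≠ 1 := em _
          rcases hx with rfl | hx
          · simp
          · rcases hy with rfl | hy
            · simp
            · have hxy : x * y = 1 := by
                have : ∀ a b : Multiplicative (ZMod 2), a ≠ 1 → b ≠ 1 → a * b = 1 := by decide
                exact this x y hx hy
              rw [if_pos hxy, if_neg hx, if_neg hy]
              simp
        exact key x y }
  have hne : (-1 : ℂˣ) ≠ 1 := by
    intro h
    have := congrArg (fun x : ℂˣ => (x : ℂ)) h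
    norm_num at this
  set ε : U →* ℂˣ := emb.comp φ with hε
  have hε1 : ε ≠ 1 := by
    intro h
    apply h2
    refine MonoidHom.ext fun u => ?_
    have h3 := DFunLike.congr_fun h u
    rw [hε, MonoidHom.comp_apply, MonoidHom.one_apply] at h3
    change (if φ u = 1 then (1 : ℂˣ) else -1) = 1 at h3
    show φ u = 1
    by_contra h4
    rw [if_neg h4] at h3
    exact hne h3
  have hεV : V ≤ ε.ker := by
    intro v hv
    have h3 : φ v = 1 := h1 hv
    rw [MonoidHom.mem_ker, hε, MonoidHom.comp_apply, h3, map_one]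
  have hε2 : ε * ε = 1 := by
    refine MonoidHom.ext fun u => ?_
    rw [MonoidHom.mul_apply, MonoidHom.one_apply, hε, MonoidHom.comp_apply]
    change (if φ u = 1 then (1 : ℂˣ) else -1) * (if φ u = 1 then (1 : ℂˣ) else -1) = 1
    split_ifs <;> simp
  -- the subgroup
  let A : Subgroup (U →* ℂˣ) :=
    { carrier := {ψ | V ≤ ψ.ker}
      one_mem' := fun v _ => by rw [MonoidHom.mem_ker, MonoidHom.one_apply]
      mul_mem' := fun {a b} ha hb v hv => by
        rw [MonoidHom.mem_ker, MonoidHom.mul_apply, MonoidHom.mem_ker.1 (ha hv), MonoidHom.mem_ker.1 (hb hv), one_mul]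
      inv_mem' := fun {a} ha v hv => by
        rw [MonoidHom.mem_ker, MonoidHom.inv_apply, MonoidHom.mem_ker.1 (ha hv), inv_one] }
  have hA2 : 2 ∣ Nat.card A := by
    have h3 : orderOf (⟨ε, hεV⟩ : A) = 2 := by
      refine orderOf_eq_prime ?_ ?_
      · rw [pow_two]
        exact Subtype.ext hε2
      · intro h
        exact hε1 (congrArg Subtype.val h)
    rw [← h3]
    exact orderOf_dvd_natCard _
  have h5 : Nat.card A = (Finset.univ.filter fun ψ : U →* ℂˣ => V ≤ ψ.ker).card := by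
    rw [← Fintype.card_subtype, ← Nat.card_eq_fintype_card]
    rfl
  have h6 : (Finset.univ.filter fun ψ : U →* ℂˣ => ψ ≠ 1 ∧ V ≤ ψ.ker) =
      (Finset.univ.filter fun ψ : U →* ℂˣ => V ≤ ψ.ker).erase 1 := by
    ext ψ
    simp only [Finset.mem_filter, Finset.mem_univ, true_and, Finset.mem_erase]
  rw [h6, Finset.card_erase_of_mem (Finset.mem_filter.2 ⟨Finset.mem_univ _, fun v _ => by
    rw [MonoidHom.mem_ker, MonoidHom.one_apply]⟩), ← h5]
  have h7 : 0 < Nat.card A := Nat.card_pos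
  obtain ⟨k, hk⟩ := hA2
  rw [hk] at h7 ⊢
  exact ⟨k - 1, by omega⟩

end Cfsg.Agent.H743.EP
end

-- part: H743/EP/Orb
section
/-!
# Orbits of the unipotent radical, the Borel subgroup and the minimal parabolic subgroups on the chambers (helper743)
-/

set_option autoImplicit false
set_option linter.unusedSectionVars false

namespace Cfsg.Agent.H743.EP

open MulAction Cfsg Cfsg.Agent.Characters.Core Cfsg.Agent.H969.TT.Count Cfsg.Agent.H969.TT.TopAbs
  Cfsg.Agent.H969.TT.TopRGD Cfsg.Agent.Tits.Core Cfsg.Agent.Tits.Core.Bldg Cfsg.Agent.Tits.Exchange Cfsg.Agent.FixBN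
  Cfsg.Agent.Tits Cfsg.Agent.H330.ClassRes Cfsg.Agent.H114.StRegular
open scoped ComplexConjugate

section Gen

variable {Y Ω β : Type*} [Group Y] [MulAction Y Ω]

/-- the orbits of `H` through an invariant -/
noncomputable def orbEquiv (H : Subgroup Y) (f : Ω → β) (hf : Function.Surjective f)
    (h : ∀ x y, f x = f y ↔ ∃ g ∈ H, g • x = y) : orbitRel.Quotient H Ω ≃ β :=
  Equiv.ofBijective (Quotient.lift f fun a b hab => by
    obtain ⟨g, hg⟩ := hab
    exact ((h b a).2 ⟨g, g.2, hg⟩).symm) ⟨by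
      intro a b hab
      obtain ⟨x, rfl⟩ := Quotient.mk''_surjective a
      obtain ⟨y, rfl⟩ := Quotient.mk''_surjective b
      obtain ⟨g, hg, e⟩ := (h y x).1 (show f y = f x from hab.symm)
      exact mk_eq.2 ⟨⟨g, hg⟩, e⟩, by
      intro b
      obtain ⟨x, rfl⟩ := hf b
      exact ⟨Quotient.mk'' x, rfl⟩⟩

theorem orbEquiv_mk (H : Subgroup Y) (f : Ω → β) (hf : Function.Surjective f)
    (h : ∀ x y, f x = f y ↔ ∃ g ∈ H, g • x = y) (x : Ω) :
    orbEquiv H f hf h (Quotient.mk'' x : orbitRel.Quotient H Ω) = f x := rfl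

theorem nOrb_of_map (H : Subgroup Y) (f : Ω → β) (hf : Function.Surjective f)
    (h : ∀ x y, f x = f y ↔ ∃ g ∈ H, g • x = y) : nOrb H Ω = Nat.card β :=
  Nat.card_congr (orbEquiv H f hf h)

theorem mult_of_map (U : Subgroup Y) (K : Subgroup U) [K.Normal] (f : Ω → β) (hf : Function.Surjective f)
    (h : ∀ x y, f x = f y ↔ ∃ g ∈ U, g • x = y) (Q : β → Prop) (hQ : ∀ x, stabilizer U x ≤ K ↔ Q (f x)) :
    mult Ω K = Nat.card {b // Q b} := by
  refine Nat.card_congr (Equiv.subtypeEquiv (orbEquiv U f hf h) fun O => ?_)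
  obtain ⟨x, rfl⟩ := Quotient.mk''_surjective O
  rw [good_mk, orbEquiv_mk, hQ]

end Gen

section Bld

variable {I : Type*} {M : CoxeterMatrix I} {W : Type*} [Group W] {cs : CoxeterSystem M W} {C : Type*}
  {Δ : Bldg cs C} {G : Type*} [Group G] [MulAction G C] {p : ℕ} (S : Sys Δ G p)

local prefix:100 "ℓ" => cs.length

/-- the kernel of the action of `U c` on the `j`-panel -/
def Vj (c : C) (j : I) : Subgroup (S.U c) := (S.UR (Δ.Res {j} c)).subgroupOf (S.U c)

theorem exists_near (c y : C) (j : I) : ∃ z, Δ.δ c z = cs.simple j ∧ Δ.δ z y = cs.simple j * Δ.δ c y := by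
  obtain ⟨z, h1, h2⟩ := Δ.exists_step y c j
  refine ⟨z, h1, ?_⟩
  rw [Δ.symm y z, h2, mul_inv_rev, cs.inv_simple, ← Δ.symm y c]

theorem mem_Vj {c : C} {j : I} {u : S.U c} {z : C} (hz : Δ.δ c z = cs.simple j) (h : (u : G) • z = z) :
    u ∈ Vj S c j := by
  rw [Vj, Subgroup.mem_subgroupOf]
  intro y hy
  rw [← Pan_eq_Res] at hy
  exact S.mem_U_of_fix u.2 (S.pan c z j hz u u.2 h y hy)

theorem Vj_fix {c : C} {j : I} {u : S.U c} (h : u ∈ Vj S c j) {z : C} (hz : z ∈ Δ.Pan j c) : (u : G) • z = z := by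
  rw [Vj, Subgroup.mem_subgroupOf] at h
  exact S.fix z u (h z (by rw [← Pan_eq_Res]; exact hz))

/-- the stabiliser in `U c` of a chamber whose projection to the `j`-panel is not `c` -/
theorem stab_le_Vj {c y : C} {j : I} (h : ℓ (cs.simple j * Δ.δ c y) < ℓ (Δ.δ c y)) :
    stabilizer (S.U c) y ≤ Vj S c j := by
  intro u hu
  have hu' : (u : G) • y = y := hu
  obtain ⟨z, h1, h2⟩ := exists_near (Δ := Δ) c y j
  refine mem_Vj S h1 ?_
  have hl : ℓ (cs.simple j * (cs.simple j * Δ.δ c y)) = ℓ (cs.simple j) + ℓ (cs.simple j * Δ.δ c y) := by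
    rw [cs.simple_mul_simple_cancel_left, cs.length_simple]
    rcases cs.length_simple_mul (Δ.δ c y) j with h3 | h3 <;> omega
  have h3 := S.fix c u u.2
  refine Δ.between_unique (x := c) (z := y) hl ?_ ?_ h1 h2
  · rw [← h1, ← S.iso u c z, h3]
  · rw [← h2, ← S.iso u z y, hu']

theorem u_orb {c x y : C} [F : OppRes.Cox cs] : Δ.δ c x = Δ.δ c y ↔ ∃ g ∈ S.U c, g • x = y := by
  constructor
  · intro h
    exact S.exists_move h
  · rintro ⟨g, hg, rfl⟩
    have h1 := S.iso g c x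
    rw [S.fix c g hg] at h1
    exact h1.symm

variable [DecidableEq I] [Finite W]

theorem mem_B {c : C} {g : G} : g ∈ stabRes Δ S.iso c ∅ ↔ g • c = c := by
  rw [mem_stabRes, Finset.coe_empty]
  unfold WJ
  rw [Set.image_empty, Subgroup.closure_empty, Subgroup.mem_bot]
  exact ⟨fun h => (Δ.eq_of_δ_eq_one h).symm, fun h => by rw [h, Δ.δ_self]⟩

theorem mem_P {c : C} {j : I} {g : G} : g ∈ stabRes Δ S.iso c {j} ↔ g • c ∈ Δ.Pan j c := by
  rw [mem_stabRes, Finset.coe_singleton, Pan_eq_Res]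
  exact Iff.rfl

theorem U_le_B' (c : C) : S.U c ≤ stabRes Δ S.iso c ∅ := fun u hu => (mem_B S).2 (S.fix c u hu)

theorem B_le_P (c : C) (j : I) : stabRes Δ S.iso c ∅ ≤ stabRes Δ S.iso c {j} := fun g hg => by
  rw [mem_P S, (mem_B S).1 hg]
  exact Or.inl rfl

theorem b_orb {c x y : C} [F : OppRes.Cox cs] : Δ.δ c x = Δ.δ c y ↔ ∃ g ∈ stabRes Δ S.iso c ∅, g • x = y := by
  constructor
  · intro h
    obtain ⟨g, hg, e⟩ := S.exists_move h
    exact ⟨g, U_le_B' S c hg, e⟩
  · rintro ⟨g, hg, rfl⟩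
    have h1 := S.iso g c x
    rw [(mem_B S).1 hg] at h1
    exact h1.symm

theorem nOrb_U (c : C) [F : OppRes.Cox cs] : nOrb (S.U c) C = Nat.card W :=
  nOrb_of_map _ (Δ.δ c) (fun w => Δ.exists_δ c w) fun _ _ => u_orb S

theorem nOrb_B (c : C) [F : OppRes.Cox cs] : nOrb (stabRes Δ S.iso c ∅) C = Nat.card W :=
  nOrb_of_map _ (Δ.δ c) (fun w => Δ.exists_δ c w) fun _ _ => b_orb S

variable (cs) in
/-- the shorter of `w`, `s_j w` -/
noncomputable def sh (j : I) (w : W) : {w : W // ℓ w < ℓ (cs.simple j * w)} :=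
  open Classical in
  if h : ℓ w < ℓ (cs.simple j * w) then ⟨w, h⟩ else ⟨cs.simple j * w, by
    rw [cs.simple_mul_simple_cancel_left]
    rcases cs.length_simple_mul w j with h3 | h3 <;> omega⟩

theorem sh_val (j : I) (w : W) : (sh cs j w : W) = w ∨ (sh cs j w : W) = cs.simple j * w := by
  unfold sh
  split_ifs
  · exact Or.inl rfl
  · exact Or.inr rfl

theorem sh_of (j : I) {w : W} (h : ℓ w < ℓ (cs.simple j * w)) : sh cs j w = ⟨w, h⟩ := by
  unfold sh
  rw [dif_pos h]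

theorem sh_mul (j : I) (w : W) : sh cs j (cs.simple j * w) = sh cs j w := by
  unfold sh
  by_cases h : ℓ w < ℓ (cs.simple j * w)
  · rw [dif_pos h, dif_neg (by rw [cs.simple_mul_simple_cancel_left]; omega)]
    exact Subtype.ext (cs.simple_mul_simple_cancel_left j)
  · have h' : ℓ (cs.simple j * w) < ℓ (cs.simple j * (cs.simple j * w)) := by
      rw [cs.simple_mul_simple_cancel_left]
      rcases cs.length_simple_mul w j with h3 | h3 <;> omega
    rw [dif_neg h, dif_pos h']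

theorem sh_eq_iff (j : I) (v w : W) : sh cs j v = sh cs j w ↔ v = w ∨ v = cs.simple j * w := by
  constructor
  · intro h
    have h1 : (sh cs j v : W) = sh cs j w := congrArg Subtype.val h
    rcases sh_val (cs := cs) j v with h2 | h2 <;> rcases sh_val (cs := cs) j w with h3 | h3 <;> rw [h2, h3] at h1
    · exact Or.inl h1
    · exact Or.inr h1
    · right
      rw [← h1, cs.simple_mul_simple_cancel_left]
    · exact Or.inl (mul_left_cancel h1)
  · rintro (rfl | rfl)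
    · rfl
    · rw [sh_mul]

theorem nOrb_P (ht : ∀ x y : C, ∃ g : G, g • x = y) (c : C) (j : I) [F : OppRes.Cox cs] :
    nOrb (stabRes Δ S.iso c {j}) C = Nat.card {w : W // ℓ w < ℓ (cs.simple j * w)} := by
  refine nOrb_of_map _ (fun y => sh cs j (Δ.δ c y)) ?_ fun x y => ?_
  · rintro ⟨w, hw⟩
    obtain ⟨y, hy⟩ := Δ.exists_δ c w
    exact ⟨y, by beta_reduce; rw [hy, sh_of j hw]⟩
  · rw [sh_eq_iff]
    constructor
    · rintro (h | h)
      · obtain ⟨g, hg, e⟩ := (b_orb S).1 h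
        exact ⟨g, B_le_P S c j hg, e⟩
      · -- a chamber of the panel at the distance `δ c x` of `y`
        obtain ⟨z, h1, h2⟩ := exists_near (Δ := Δ) c y j
        rw [← h] at h2
        obtain ⟨g, rfl⟩ := ht c z
        rw [← S.iso g c x] at h2
        obtain ⟨u, hu, e⟩ := S.exists_move h2.symm
        refine ⟨u * g, ?_, by rw [mul_smul, e]⟩
        rw [mem_P S, mul_smul, S.fix _ u hu]
        exact Or.inr h1
    · rintro ⟨g, hg, rfl⟩
      rw [mem_P S] at hg
      have h1 : Δ.δ (g • c) (g • x) = Δ.δ c x := S.iso g c x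
      rcases hg with h2 | h2
      · left
        rw [h2] at h1
        exact h1.symm
      · obtain ⟨t, ht, h3⟩ := Δ.exists_mul_of_mem_left (J := {j}) (g • x) (x := c) (y := g • c) (by
          rw [h2]; exact simple_mem_WJ cs rfl)
        rw [h1] at h3
        rcases mem_WJ_singleton.1 ht with rfl | rfl
        · left
          rw [h3, one_mul]
        · right
          rw [h3, cs.simple_mul_simple_cancel_left]

theorem Vj_normal (c : C) (j : I) : (Vj S c j).Normal := by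
  refine ⟨fun v hv u => ?_⟩
  obtain ⟨z, hz⟩ := Δ.exists_δ c (cs.simple j)
  refine mem_Vj S hz ?_
  have h1 : ((u⁻¹ : S.U c) : G) • z ∈ Δ.Pan j c := by
    right
    have h2 := S.iso ((u⁻¹ : S.U c) : G) c z
    rw [S.fix c _ (u⁻¹).2] at h2
    rw [h2, hz]
  rw [Subgroup.coe_mul, Subgroup.coe_mul, mul_smul, mul_smul, Vj_fix S hv h1, ← mul_smul, Subgroup.coe_inv,
    mul_inv_cancel, one_smul]

section Factor

variable [F : OppRes.Cox cs] [Finite G] [Finite C] [Fact p.Prime] (hth : Δ.Thick)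
  (ht : ∀ x y : C, ∃ g : G, g • x = y)

include hth ht

/-- `U = V_j stab(y)` if `c` is the projection of `y` to the `j`-panel. -/
theorem exists_VS {c y : C} {j : I} (h : ℓ (Δ.δ c y) < ℓ (cs.simple j * Δ.δ c y)) (u : S.U c) :
    ∃ v ∈ Vj S c j, ∃ l ∈ stabilizer (S.U c) y, u = v * l := by
  have hm : IsMinL cs ({j} : Set I) (Δ.δ c y) := by
    rw [isMinL_iff]
    rintro i rfl
    exact h
  obtain ⟨v, hv, l, hl, hl', e⟩ := exists_factor_min (S := S) hth ht hm u.2
  have hvU : v ∈ S.U c := hv c (Δ.self_mem_Res _ _)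
  exact ⟨⟨v, hvU⟩, Subgroup.mem_subgroupOf.2 hv, ⟨l, hl⟩, S.fix y l hl', Subtype.ext e⟩

theorem stab_le_iff {c y : C} {j : I} {K : Subgroup (S.U c)} (hK : K ≠ ⊤) (hV : Vj S c j ≤ K) :
    stabilizer (S.U c) y ≤ K ↔ ℓ (cs.simple j * Δ.δ c y) < ℓ (Δ.δ c y) := by
  constructor
  · intro h
    by_contra hcon
    have h1 : ℓ (Δ.δ c y) < ℓ (cs.simple j * Δ.δ c y) := by
      rcases cs.length_simple_mul (Δ.δ c y) j with h3 | h3 <;> omega
    apply hK
    rw [eq_top_iff]
    intro u _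
    obtain ⟨v, hv, l, hl, rfl⟩ := exists_VS S hth ht h1 u
    exact mul_mem (hV hv) (h hl)
  · intro h
    exact (stab_le_Vj S h).trans hV

theorem mult_j {c : C} {j : I} {K : Subgroup (S.U c)} [K.Normal] (hK : K ≠ ⊤) (hV : Vj S c j ≤ K) :
    mult C K = Nat.card {w : W // ℓ (cs.simple j * w) < ℓ w} :=
  mult_of_map _ _ (Δ.δ c) (fun w => Δ.exists_δ c w) (fun _ _ => u_orb S) _ fun _ => stab_le_iff S hth ht hK hV

/-- `U = V_i V_j` -/
theorem eq_top_of_both {c : C} {i j : I} (hij : cs.simple i ≠ cs.simple j) {K : Subgroup (S.U c)} (hi : Vj S c i ≤ K)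
    (hj : Vj S c j ≤ K) : K = ⊤ := by
  rw [eq_top_iff]
  intro u _
  obtain ⟨z, hz⟩ := Δ.exists_δ c (cs.simple j)
  have h1 : ℓ (Δ.δ c z) < ℓ (cs.simple i * Δ.δ c z) := by
    rw [hz, cs.length_simple]
    rcases cs.length_simple_mul (cs.simple j) i with h3 | h3
    · rw [h3, cs.length_simple]
      omega
    · rw [cs.length_simple] at h3
      have h4 : cs.simple i * cs.simple j = 1 := cs.length_eq_zero_iff.1 (by omega)
      have h5 : cs.simple i = (cs.simple j)⁻¹ := mul_eq_one_iff_eq_inv.1 h4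
      rw [cs.inv_simple] at h5
      exact absurd h5 hij
  obtain ⟨v, hv, l, hl, rfl⟩ := exists_VS S hth ht h1 u
  exact mul_mem (hi hv) (hj (mem_Vj S hz hl))

/-- the generic characters -/
theorem stab_gen {c y : C} {i j : I} (hij : cs.simple i ≠ cs.simple j) (hI : ∀ k, k = i ∨ k = j)
    {K : Subgroup (S.U c)} (hK : Vj S c i ⊓ Vj S c j ≤ K) (hi : ¬ Vj S c i ≤ K) (hj : ¬ Vj S c j ≤ K) :
    stabilizer (S.U c) y ≤ K ↔ Δ.δ c y = w0 cs := by
  constructor
  · intro h
    have key : ∀ i j : I, (∀ k, k = i ∨ k = j) → Vj S c i ⊓ Vj S c j ≤ K → ¬ Vj S c i ≤ K →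
        ℓ (cs.simple j * Δ.δ c y) < ℓ (Δ.δ c y) ∨ Δ.δ c y = 1 := by
      intro i j hI hK hi
      by_contra hcon
      push Not at hcon
      obtain ⟨h1, h2⟩ := hcon
      have h1' : ℓ (Δ.δ c y) < ℓ (cs.simple j * Δ.δ c y) := by
        rcases cs.length_simple_mul (Δ.δ c y) j with h3 | h3 <;> omega
      -- `i` is a descent
      have h3 : ℓ (cs.simple i * Δ.δ c y) < ℓ (Δ.δ c y) := by
        obtain ⟨k, hk⟩ := cs.exists_leftDescent_of_ne_one h2
        rcases hI k with rfl | rfl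
        · exact hk
        · exact absurd hk (not_lt.2 h1'.le)
      apply hi
      intro u hu
      obtain ⟨v, hv, l, hl, rfl⟩ := exists_VS S hth ht h1' u
      have hl' : l ∈ Vj S c i := stab_le_Vj S h3 hl
      have hv' : v ∈ Vj S c i := by
        have := mul_mem hu (inv_mem hl')
        rwa [mul_inv_cancel_right] at this
      exact mul_mem (hK ⟨hv', hv⟩) (h hl)
    have h1 : Δ.δ c y ≠ 1 := by
      intro h1
      apply hi
      intro u _
      apply h
      rw [mem_stabilizer_iff, ← Δ.eq_of_δ_eq_one h1]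
      exact S.fix c u u.2
    have h2 : ∀ k, ℓ (cs.simple k * Δ.δ c y) < ℓ (Δ.δ c y) := by
      intro k
      rcases hI k with rfl | rfl
      · exact (key j k (fun k => (hI k).symm) (by rw [inf_comm]; exact hK) hj).resolve_right h1
      · exact (key i k hI hK hi).resolve_right h1
    have h3 : Δ.δ c y * w0 cs = 1 := by
      by_contra hne
      obtain ⟨k, hk⟩ := cs.exists_leftDescent_of_ne_one hne
      have h4 : ℓ (cs.simple k * (Δ.δ c y * w0 cs)) < ℓ (Δ.δ c y * w0 cs) := hk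
      rw [← mul_assoc] at h4
      have h5 := F.len_mul_w0 (cs.simple k * Δ.δ c y)
      have h6 := F.len_mul_w0 (Δ.δ c y)
      have := h2 k
      omega
    rw [mul_eq_one_iff_eq_inv.1 h3, F.w0_inv]
  · intro h u hu
    have h1 : u = 1 := Subtype.ext (S.free c y h u u.2 hu)
    rw [h1]
    exact one_mem _

theorem mult_gen {c : C} {i j : I} (hij : cs.simple i ≠ cs.simple j) (hI : ∀ k, k = i ∨ k = j)
    {K : Subgroup (S.U c)} [K.Normal] (hK : Vj S c i ⊓ Vj S c j ≤ K) (hi : ¬ Vj S c i ≤ K) (hj : ¬ Vj S c j ≤ K) :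
    mult C K = 1 := by
  rw [mult_of_map _ _ (Δ.δ c) (fun w => Δ.exists_δ c w) (fun _ _ => u_orb S) (fun w => w = w0 cs) fun _ =>
    stab_gen S hth ht hij hI hK hi hj]
  rw [Nat.card_eq_one_iff_unique]
  exact ⟨⟨fun a b => Subtype.ext (a.2.trans b.2.symm)⟩, ⟨⟨_, rfl⟩⟩⟩

end Factor

end Bld

end Cfsg.Agent.H743.EP
end

-- part: H743/EP/Pan
section
/-!
# The inequality of a panel (helper743)

`b_le` : `ψ ≠ 1` a linear character of `U` trivial on `V_j`: `⟨θ, 1_B⟩ ≤ ⟨θ, 1_{P_j}⟩ + ⟨θ_U, ψ⟩`.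
-/

set_option autoImplicit false
set_option linter.unusedSectionVars false

namespace Cfsg.Agent.H743.EP

open MulAction Cfsg Cfsg.Agent.Characters.Core Cfsg.Agent.H969.TT.Count Cfsg.Agent.H969.TT.TopAbs
  Cfsg.Agent.H969.TT.TopRGD Cfsg.Agent.Tits.Core Cfsg.Agent.Tits.Core.Bldg Cfsg.Agent.Tits.Exchange Cfsg.Agent.FixBN
  Cfsg.Agent.Tits Cfsg.Agent.H330.ClassRes Cfsg.Agent.H114.StRegular
open scoped ComplexConjugate

variable {I : Type*} {M : CoxeterMatrix I} {W : Type*} [Group W] {cs : CoxeterSystem M W} {C : Type*}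
  {Δ : Bldg cs C} {G : Type*} [Group G] [MulAction G C] {p : ℕ} (S : Sys Δ G p)

local prefix:100 "ℓ" => cs.length

variable [DecidableEq I] [Finite W] [F : OppRes.Cox cs]

section Orb

variable (c : C) (j : I)

/-- `B` in `P_j` -/
abbrev BP : Subgroup ↥(stabRes Δ S.iso c {j}) := (stabRes Δ S.iso c ∅).subgroupOf (stabRes Δ S.iso c {j})

/-- `U` in `P_j` -/
abbrev UP : Subgroup ↥(stabRes Δ S.iso c {j}) := (S.U c).subgroupOf (stabRes Δ S.iso c {j})

variable {c j}

theorem mk_eq_one_iff {g : ↥(stabRes Δ S.iso c {j})} :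
    (QuotientGroup.mk g : ↥(stabRes Δ S.iso c {j}) ⧸ BP S c j) = QuotientGroup.mk 1 ↔ (g : G) • c = c := by
  rw [eq_comm, QuotientGroup.eq, inv_one, one_mul, Subgroup.mem_subgroupOf, mem_B S]

theorem one_ne_simple : (1 : W) ≠ cs.simple j := by
  intro h
  have h2 := cs.length_simple j
  rw [← h, cs.length_one] at h2
  exact absurd h2 (by norm_num)

theorem delta_of {g : ↥(stabRes Δ S.iso c {j})} (h : (g : G) • c ≠ c) : Δ.δ c ((g : G) • c) = cs.simple j := by
  rcases (mem_P S).1 g.2 with h1 | h1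
  · exact absurd h1 h
  · exact h1

/-- the two orbits -/
theorem orb_iff {H : Subgroup ↥(stabRes Δ S.iso c {j})} (hH : UP S c j ≤ H) (hB : H ≤ BP S c j)
    (x y : ↥(stabRes Δ S.iso c {j}) ⧸ BP S c j) :
    (x = QuotientGroup.mk 1) = (y = QuotientGroup.mk 1) ↔ ∃ g ∈ H, g • x = y := by
  obtain ⟨x, rfl⟩ := QuotientGroup.mk_surjective x
  obtain ⟨y, rfl⟩ := QuotientGroup.mk_surjective y
  rw [mk_eq_one_iff S, mk_eq_one_iff S]
  constructor
  · intro h
    by_cases hx : (x : G) • c = c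
    · have hy : (y : G) • c = c := by rwa [h] at hx
      refine ⟨1, one_mem _, ?_⟩
      rw [one_smul, (mk_eq_one_iff S).2 hx, (mk_eq_one_iff S).2 hy]
    · have hy : (y : G) • c ≠ c := fun h' => hx (by rwa [h])
      have h1 : Δ.δ c ((x : G) • c) = Δ.δ c ((y : G) • c) := by rw [delta_of S hx, delta_of S hy]
      obtain ⟨u, hu, e⟩ := S.exists_move h1
      have huP : u ∈ stabRes Δ S.iso c {j} := B_le_P S c j (U_le_B' S c hu)
      refine ⟨⟨u, huP⟩, hH (Subgroup.mem_subgroupOf.2 hu), ?_⟩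
      change (QuotientGroup.mk (⟨u, huP⟩ * x) : ↥(stabRes Δ S.iso c {j}) ⧸ BP S c j) = QuotientGroup.mk y
      rw [QuotientGroup.eq, Subgroup.mem_subgroupOf, mem_B S]
      change (((u * (x : G))⁻¹ * (y : G)) : G) • c = c
      rw [mul_smul, ← e, ← mul_smul, ← mul_smul, mul_assoc, inv_mul_cancel, one_smul]
  · rintro ⟨g, hg, e⟩
    have hgc : (g : G) • c = c := (mem_B S).1 (Subgroup.mem_subgroupOf.1 (hB hg))
    have e' : (QuotientGroup.mk (g * x) : ↥(stabRes Δ S.iso c {j}) ⧸ BP S c j) = QuotientGroup.mk y := e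
    rw [QuotientGroup.eq, Subgroup.mem_subgroupOf, mem_B S] at e'
    have h1 : (y : G) • c = (g : G) • (x : G) • c := by
      have h2 : (((g * x)⁻¹ * y : ↥(stabRes Δ S.iso c {j})) : G) = ((g : G) * x)⁻¹ * y := rfl
      rw [h2, mul_smul, inv_smul_eq_iff, mul_smul] at e'
      exact e'
    rw [h1, eq_iff_iff]
    constructor
    · intro h
      rw [h, hgc]
    · intro h
      have h2 : (x : G) • c = (g : G)⁻¹ • c := by rw [eq_inv_smul_iff, h]
      rw [h2, inv_smul_eq_iff, hgc]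

variable (ht : ∀ x y : C, ∃ g : G, g • x = y)

include ht

theorem orb_surj : Function.Surjective fun x : ↥(stabRes Δ S.iso c {j}) ⧸ BP S c j => (x = QuotientGroup.mk 1) := by
  intro b
  by_cases hb : b
  · exact ⟨QuotientGroup.mk 1, by simp only [hb]⟩
  · obtain ⟨z, hz⟩ := Δ.exists_δ c (cs.simple j)
    obtain ⟨g, rfl⟩ := ht c z
    have hg : g ∈ stabRes Δ S.iso c {j} := (mem_P S).2 (Or.inr hz)
    refine ⟨QuotientGroup.mk ⟨g, hg⟩, ?_⟩
    beta_reduce
    rw [mk_eq_one_iff S, eq_iff_iff]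
    refine ⟨fun h => ?_, fun h => absurd h hb⟩
    change g • c = c at h
    rw [h, Δ.δ_self] at hz
    exact absurd hz one_ne_simple

theorem nOrb_BP : nOrb (BP S c j) (↥(stabRes Δ S.iso c {j}) ⧸ BP S c j) = 2 := by
  have h1 : UP S c j ≤ BP S c j := fun u hu => Subgroup.mem_subgroupOf.2 (U_le_B' S c (Subgroup.mem_subgroupOf.1 hu))
  rw [nOrb_of_map (BP S c j) _ (orb_surj S ht) (orb_iff S h1 le_rfl), Nat.card_eq_fintype_card, Fintype.card_prop]

theorem mult_BP {K : Subgroup ↥(UP S c j)} [K.Normal] (hK : K ≠ ⊤)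
    (hV : ∀ u : ↥(UP S c j), (⟨((u : ↥(stabRes Δ S.iso c {j})) : G), u.2⟩ : S.U c) ∈ Vj S c j → u ∈ K) :
    mult (↥(stabRes Δ S.iso c {j}) ⧸ BP S c j) K = 1 := by
  have h1 : UP S c j ≤ BP S c j := fun u hu => Subgroup.mem_subgroupOf.2 (U_le_B' S c (Subgroup.mem_subgroupOf.1 hu))
  refine (mult_of_map (UP S c j) K _ (orb_surj S ht) (orb_iff S le_rfl h1) (fun b => ¬ b) ?_).trans ?_
  swap
  · rw [Nat.card_eq_one_iff_unique]
    exact ⟨⟨fun a b => Subtype.ext (eq_iff_iff.2 ⟨fun h => absurd h a.2, fun h => absurd h b.2⟩)⟩, ⟨⟨False, not_false⟩⟩⟩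
  · intro x
    constructor
    · intro h hx
      apply hK
      rw [eq_top_iff]
      intro u _
      apply h
      rw [mem_stabilizer_iff, hx]
      change (QuotientGroup.mk ((u : ↥(stabRes Δ S.iso c {j})) * 1) : ↥(stabRes Δ S.iso c {j}) ⧸ BP S c j) = QuotientGroup.mk 1
      rw [mul_one, mk_eq_one_iff S]
      exact S.fix c _ u.2
    · intro hx u hu
      obtain ⟨g, rfl⟩ := QuotientGroup.mk_surjective x
      rw [mk_eq_one_iff S] at hx
      apply hV
      refine mem_Vj S (delta_of S hx) ?_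
      rw [mem_stabilizer_iff] at hu
      have e' : (QuotientGroup.mk ((u : ↥(stabRes Δ S.iso c {j})) * g) : ↥(stabRes Δ S.iso c {j}) ⧸ BP S c j) =
        QuotientGroup.mk g := hu
      rw [eq_comm, QuotientGroup.eq, Subgroup.mem_subgroupOf, mem_B S] at e'
      change (((g : G)⁻¹ * ((u : ↥(stabRes Δ S.iso c {j})) * g : G)) : G) • c = c at e'
      rw [mul_smul, inv_smul_eq_iff, mul_smul] at e'
      exact e'

end Orb

theorem b_le [Finite G] (ht : ∀ x y : C, ∃ g : G, g • x = y) {c : C} {j : I} [Fintype ↥(S.U c)]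
    [Fintype ↥(stabRes Δ S.iso c ∅)] [Fintype ↥(stabRes Δ S.iso c {j})] (ψ : S.U c →* ℂˣ) (hψ : ψ ≠ 1)
    (hV : Vj S c j ≤ ψ.ker) {θ : G → ℂ} (hθ : IsCharacter G θ) {a b d : ℕ}
    (ha : ∑ y : ↥(stabRes Δ S.iso c {j}), θ y = (Nat.card ↥(stabRes Δ S.iso c {j}) : ℂ) * a)
    (hb : ∑ y : ↥(stabRes Δ S.iso c ∅), θ y = (Nat.card ↥(stabRes Δ S.iso c ∅) : ℂ) * b)
    (hc : tw (S.U c) ψ θ = (Nat.card ↥(S.U c) : ℂ) * d) : b ≤ a + d := by
  have hU : S.U c ≤ stabRes Δ S.iso c {j} := (U_le_B' S c).trans (B_le_P S c j)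
  have : Fintype ↥(BP S c j) := Fintype.ofFinite _
  have : Fintype ↥(UP S c j) := Fintype.ofFinite _
  set e := Subgroup.subgroupOfEquivOfLe hU with he
  set e' := Subgroup.subgroupOfEquivOfLe (B_le_P S c j) with he'
  have hev : ∀ u : ↥(UP S c j), e u = (⟨((u : ↥(stabRes Δ S.iso c {j})) : G), u.2⟩ : S.U c) := fun u => rfl
  set ψ' : ↥(UP S c j) →* ℂˣ := ψ.comp e.toMonoidHom with hψ'
  have hval : ∀ u, ψ' u = ψ (e u) := fun u => rfl
  have hne : ψ' ≠ 1 := by
    intro h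
    apply hψ
    ext u
    have h1 := DFunLike.congr_fun h (e.symm u)
    rw [hval, e.apply_symm_apply] at h1
    rw [h1, MonoidHom.one_apply, MonoidHom.one_apply]
  have hker : ψ'.ker ≠ ⊤ := by
    intro h
    apply hne
    ext u
    have h1 : u ∈ ψ'.ker := by rw [h]; exact Subgroup.mem_top u
    rw [MonoidHom.mem_ker.1 h1, MonoidHom.one_apply]
  have hm := mult_BP S ht (c := c) (j := j) (K := ψ'.ker) hker fun u hu => by
    rw [MonoidHom.mem_ker, hval, hev]
    exact hV hu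
  refine panel_le (BP S c j) (UP S c j) (nOrb_BP S ht) ψ' hne hm
    (θ := fun y : ↥(stabRes Δ S.iso c {j}) => θ y) (isCharacter_comp (stabRes Δ S.iso c {j}).subtype hθ) ha
    (b := b) (c := d) ?_ ?_
  · rw [Nat.card_congr e'.toEquiv, ← hb]
    exact Fintype.sum_equiv e'.toEquiv _ _ fun y => rfl
  · rw [Nat.card_congr e.toEquiv, ← hc]
    unfold tw
    exact Fintype.sum_equiv e.toEquiv _ _ fun u => rfl

end Cfsg.Agent.H743.EP
end

-- part: H743/EP/EvenTwo
section
/-!
# The constituents of `1_B^G` for a split (B,N)-pair of rank two in characteristic two have even degree (helper743)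

`even_two` : `V_i ∩ V_j ≤ [U, U]`, `χ` a nontrivial constituent of `1_B^G`: `χ(1)` is even.
-/

set_option autoImplicit false
set_option linter.unusedSectionVars false

namespace Cfsg.Agent.H743.EP

open MulAction Cfsg Cfsg.Agent.Characters.Core Cfsg.Agent.H969.TT.Count Cfsg.Agent.H969.TT.TopAbs
  Cfsg.Agent.H969.TT.TopRGD Cfsg.Agent.Tits.Core Cfsg.Agent.Tits.Core.Bldg Cfsg.Agent.Tits.Exchange Cfsg.Agent.FixBN
  Cfsg.Agent.Tits Cfsg.Agent.H330.ClassRes Cfsg.Agent.H114.StRegular Cfsg.Agent.H167.AltBldg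
open scoped ComplexConjugate

variable {I : Type*} {M : CoxeterMatrix I} {W : Type*} [Group W] {cs : CoxeterSystem M W} {C : Type*}
  {Δ : Bldg cs C} {G : Type*} [Group G] [MulAction G C] {p : ℕ} (S : Sys Δ G p)

local prefix:100 "ℓ" => cs.length

variable [DecidableEq I] [Finite W] [F : OppRes.Cox cs]

/-- the chambers are the cosets of `B` -/
theorem fpc_eq [Finite G] (ht : ∀ x y : C, ∃ g : G, g • x = y) (c : C) :
    fixedPointCharacter (stabRes Δ S.iso c ∅) = fun g : G => (Nat.card (fixedBy C g) : ℂ) := by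
  have hwd : ∀ a b : G, (QuotientGroup.leftRel (stabRes Δ S.iso c ∅)) a b → a • c = b • c := by
    intro a b hab
    rw [QuotientGroup.leftRel_apply, mem_B S, mul_smul, inv_smul_eq_iff] at hab
    exact hab.symm
  let e : G ⧸ (stabRes Δ S.iso c ∅) → C := Quotient.lift (fun g : G => g • c) hwd
  have he : ∀ g : G, e (QuotientGroup.mk g) = g • c := fun g => rfl
  have heq : ∀ (g : G) (x : G ⧸ (stabRes Δ S.iso c ∅)), e (g • x) = g • e x := by
    intro g x
    obtain ⟨y, rfl⟩ := QuotientGroup.mk_surjective x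
    change e (QuotientGroup.mk (g * y)) = _
    rw [he, he, mul_smul]
  have hbij : Function.Bijective e := by
    constructor
    · intro x y h
      obtain ⟨x, rfl⟩ := QuotientGroup.mk_surjective x
      obtain ⟨y, rfl⟩ := QuotientGroup.mk_surjective y
      rw [he, he] at h
      rw [QuotientGroup.eq, mem_B S, mul_smul, ← h, inv_smul_smul]
    · intro z
      obtain ⟨g, rfl⟩ := ht c z
      exact ⟨QuotientGroup.mk g, rfl⟩
  funext g
  rw [fixedPointCharacter]
  congr 1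
  refine Nat.card_congr ((Equiv.ofBijective e hbij).subtypeEquiv fun x => ?_)
  change g • x = x ↔ g • e x = e x
  rw [← heq]
  exact ⟨fun h => by rw [h], fun h => hbij.1 h⟩

/-- the number of fixed vectors decreases -/
theorem fixed_le [Finite G] (B U : Subgroup G) [Fintype B] [Fintype U] (hUB : U ≤ B) {θ : G → ℂ} (hθ : IsCharacter G θ)
    {b c : ℕ} (hb : ∑ y : B, θ y = (Nat.card B : ℂ) * b) (hc : tw U 1 θ = (Nat.card U : ℂ) * c) : b ≤ c := by
  have : Fintype ↥(U.subgroupOf B) := Fintype.ofFinite _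
  set e := Subgroup.subgroupOfEquivOfLe hUB with he
  refine le_of_irr (U.subgroupOf B) 1 isIrr_one ?_ (isCharacter_comp B.subtype hθ) (c := c) (s := b) ?_ ?_
  · unfold tw
    simp only [Nat.card_eq_fintype_card, _root_.MonoidHom.one_apply, _root_.Units.val_one, _root_.Pi.one_apply, _root_.mul_one, _root_.Finset.sum_const, _root_.Finset.card_univ, _root_.nsmul_eq_mul, _root_.Nat.card_eq_fintype_card]
  · rw [Nat.card_congr e.toEquiv, ← hc]
    unfold tw
    exact Fintype.sum_equiv e.toEquiv _ _ fun u => rfl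
  · rw [classInner_def]
    simp only [Pi.one_apply, map_one, mul_one]
    have h1 : ∑ y : B, (θ ∘ B.subtype) y = ∑ y : B, θ y := rfl
    rw [h1, hb, ← mul_assoc, inv_mul_cancel₀ card_ne_zero_complex, one_mul]

theorem tw_one (H : Subgroup G) [Fintype H] (F : G → ℂ) : tw H 1 F = ∑ y : H, F y := by
  unfold tw
  simp only [_root_.MonoidHom.one_apply, _root_.Units.val_one, _root_.one_mul]

theorem tw_perm [Finite C] (H : Subgroup G) [Finite G] [Fintype H] (ψ : H →* ℂˣ) :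
    tw H ψ (fun g : G => (Nat.card (fixedBy C g) : ℂ)) = (Nat.card H : ℂ) * (mult C ψ.ker : ℂ) := by
  have : Fintype C := Fintype.ofFinite _
  exact sum_char (U := H) (Ω := C) ψ

theorem tw_perm_one [Finite C] (H : Subgroup G) [Finite G] [Fintype H] :
    tw H 1 (fun g : G => (Nat.card (fixedBy C g) : ℂ)) = (Nat.card H : ℂ) * (nOrb H C : ℂ) := by
  rw [tw_perm, MonoidHom.ker_one, mult_top]
  rfl

theorem card_opp (c : C) : Nat.card {y // Δ.Opp c y} = Nat.card ↥(S.U c) := by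
  obtain ⟨y0, hy0⟩ := Δ.exists_δ c (w0 cs)
  have h1 : ∀ u : S.U c, Δ.Opp c ((u : G) • y0) := by
    intro u
    have h2 := S.iso (u : G) c y0
    rw [S.fix c u u.2] at h2
    exact h2.trans hy0
  symm
  refine Nat.card_congr (Equiv.ofBijective (fun u : S.U c => (⟨(u : G) • y0, h1 u⟩ : {y // Δ.Opp c y})) ⟨?_, ?_⟩)
  · intro u v h
    have h2 : (u : G) • y0 = (v : G) • y0 := congrArg Subtype.val h
    have h3 := S.free c y0 hy0 ((v : G)⁻¹ * u) (mul_mem (inv_mem v.2) u.2) (by rw [mul_smul, h2, inv_smul_smul])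
    exact Subtype.ext (inv_mul_eq_one.1 h3).symm
  · rintro ⟨y, hy⟩
    obtain ⟨u, hu, e⟩ := S.trans c y0 y hy0 hy
    exact ⟨⟨u, hu⟩, Subtype.ext e⟩

theorem Vj_ne_top (hth : Δ.Thick) (c : C) (j : I) : Vj S c j ≠ ⊤ := by
  intro h
  obtain ⟨y, z, hyz, hy, hz⟩ := hth c j
  obtain ⟨u, hu, e⟩ := S.exists_move (x := c) (z := y) (z' := z) (hy.trans hz.symm)
  have h1 : (⟨u, hu⟩ : S.U c) ∈ Vj S c j := by rw [h]; exact Subgroup.mem_top _
  have h2 := Vj_fix S h1 (z := y) (Or.inr hy)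
  exact hyz (h2.symm.trans e)

section Main

variable [Fintype I] [Fintype C]

theorem st_eq [Finite G] (c : C) {i j : I} (hij : i ≠ j) (hI : (Finset.univ : Finset I) = {i, j}) (g : G) :
    (∑ K ∈ (Finset.univ : Finset I).powerset, (-1 : ℂ) ^ K.card * fixedPointCharacter (stabRes Δ S.iso c K) g) =
      fixedPointCharacter (stabRes Δ S.iso c ∅) g - fixedPointCharacter (stabRes Δ S.iso c {i}) g -
        fixedPointCharacter (stabRes Δ S.iso c {j}) g + 1 := by
  have h2 : fixedPointCharacter (stabRes Δ S.iso c ({i, j} : Finset I)) g = 1 := by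
    have h3 : stabRes Δ S.iso c ({i, j} : Finset I) = ⊤ := by
      rw [eq_top_iff]
      intro g _
      rw [← hI, mem_stabRes, Finset.coe_univ]
      exact mem_WJ_univ cs _
    rw [h3, fixedPointCharacter]
    have h4 : Subsingleton (G ⧸ (⊤ : Subgroup G)) := QuotientGroup.subsingleton_quotient_top
    have h5 : Nat.card (MulAction.fixedBy (G ⧸ (⊤ : Subgroup G)) g) = 1 := by
      rw [Nat.card_eq_one_iff_unique]
      exact ⟨⟨fun a b => Subtype.ext (Subsingleton.elim _ _)⟩, ⟨⟨QuotientGroup.mk 1, Subsingleton.elim _ _⟩⟩⟩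
    rw [h5, Nat.cast_one]
  rw [hI, Finset.sum_powerset_insert (by simpa using hij), ← LawfulSingleton.insert_empty_eq j,
    Finset.sum_powerset_insert (Finset.notMem_empty j), Finset.sum_powerset_insert (Finset.notMem_empty j)]
  simp only [Finset.powerset_empty, Finset.sum_singleton, Finset.card_empty, pow_zero, one_mul]
  rw [LawfulSingleton.insert_empty_eq, LawfulSingleton.insert_empty_eq, h2, Finset.card_singleton, Finset.card_singleton,
    Finset.card_pair hij]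
  ring

theorem even_two (S : Sys Δ G 2) [Finite G] (hth : Δ.Thick)
    (htr : ∀ x y x' y', Δ.δ x y = Δ.δ x' y' → ∃ g : G, g • x = x' ∧ g • y = y')
    (a : W → C) (ha : ∀ v w, Δ.δ (a v) (a w) = v⁻¹ * w) {i j : I} (hij : i ≠ j) (hI : (Finset.univ : Finset I) = {i, j})
    (c : C) (hR : Vj S c i ⊓ Vj S c j ≤ commutator (S.U c)) {χ : G → ℂ}
    (hχ : IsIrrCharacter G χ) (hχ1 : χ ≠ 1) (hB : ∑ᶠ y : ↥(stabRes Δ S.iso c ∅), χ y ≠ 0) {n : ℕ} (hn : χ 1 = n) :
    2 ∣ n := by
  classical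
  have : Fact (Nat.Prime 2) := ⟨Nat.prime_two⟩
  have : Fintype G := Fintype.ofFinite _
  have : Fintype (IrrCharacter G) := @Fintype.ofFinite _ finite_irr
  have : Fintype ↥(S.U c) := Fintype.ofFinite _
  have : ∀ K, Fintype ↥(stabRes Δ S.iso c K) := fun K => Fintype.ofFinite _
  have : Fintype (↥(S.U c) →* ℂˣ) := Fintype.ofFinite _
  have ht : ∀ x y : C, ∃ g : G, g • x = y := by
    intro x y
    obtain ⟨g, hg, -⟩ := htr x x y y (by rw [(Δ.eq_one x x).2 rfl, (Δ.eq_one y y).2 rfl])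
    exact ⟨g, hg⟩
  have hij' : cs.simple i ≠ cs.simple j := fun h => hij (F.inj h)
  have hI' : ∀ k, k = i ∨ k = j := by
    intro k
    have := Finset.mem_univ k
    rw [hI] at this
    simpa using this
  have hU0 : (Nat.card ↥(S.U c) : ℂ) ≠ 0 := card_ne_zero_complex
  -- the multiplicities
  have hb : ∀ θ : IrrCharacter G, ∃ b : ℕ, ∑ y : ↥(stabRes Δ S.iso c ∅), (θ : G → ℂ) y =
      (Nat.card ↥(stabRes Δ S.iso c ∅) : ℂ) * b := by
    intro θ
    obtain ⟨b, hb⟩ := exists_tw (stabRes Δ S.iso c ∅) 1 (isIrr_isCharacter θ.2)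
    exact ⟨b, by rw [← hb, tw_one]⟩
  choose b hb using hb
  have hA : ∀ (k : I) (θ : IrrCharacter G), ∃ b : ℕ, ∑ y : ↥(stabRes Δ S.iso c {k}), (θ : G → ℂ) y =
      (Nat.card ↥(stabRes Δ S.iso c {k}) : ℂ) * b := by
    intro k θ
    obtain ⟨b, hb⟩ := exists_tw (stabRes Δ S.iso c {k}) 1 (isIrr_isCharacter θ.2)
    exact ⟨b, by rw [← hb, tw_one]⟩
  choose A hA using hA
  have hc : ∀ (ψ : ↥(S.U c) →* ℂˣ) (θ : IrrCharacter G), ∃ d : ℕ, tw (S.U c) ψ (θ : G → ℂ) =
      (Nat.card ↥(S.U c) : ℂ) * d := fun ψ θ => exists_tw (S.U c) ψ (isIrr_isCharacter θ.2)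
  choose d hd using hc
  -- the permutation character
  obtain ⟨m, hm⟩ := exists_nat_comb (isCharacter_perm (Y := G) (Ω := C))
  have hmb : m = b := by
    funext θ
    have h1 := classInner_sum_nsmul_irr m θ
    have h2 := classInner_fpc_eq (stabRes Δ S.iso c ∅) (isIrr_isClassFunction θ.2) (hb θ)
    rw [← hm, ← fpc_eq S ht c, ← classInner_conj_symm, h2, Complex.conj_natCast] at h1
    exact_mod_cast h1.symm
  rw [hmb] at hm
  have hsumU : ∀ ψ : ↥(S.U c) →* ℂˣ, ∑ θ, b θ * d ψ θ = mult C ψ.ker := by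
    intro ψ
    have h1 := tw_perm (C := C) (S.U c) ψ
    rw [hm, tw_sum (S.U c) ψ b _ (d ψ) (hd ψ)] at h1
    exact_mod_cast mul_left_cancel₀ hU0 h1
  have hsumH : ∀ (H : Subgroup G) [Fintype H] (x : IrrCharacter G → ℕ), (∀ θ : IrrCharacter G, ∑ y : H, (θ : G → ℂ) y =
      (Nat.card H : ℂ) * x θ) → ∑ θ, b θ * x θ = nOrb H C := by
    intro H _ x hx
    have h1 := tw_perm_one (C := C) H
    rw [hm, tw_sum H 1 b _ x (fun θ => by rw [tw_one, hx])] at h1
    exact_mod_cast mul_left_cancel₀ card_ne_zero_complex h1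
  have hBB : ∑ θ, b θ * b θ = Nat.card W := by rw [hsumH _ b hb, nOrb_B S c]
  have hPP : ∀ k, ∑ θ, b θ * A k θ = Nat.card {w : W // ℓ w < ℓ (cs.simple k * w)} := fun k => by
    rw [hsumH _ (A k) (hA k), nOrb_P S ht c k]
  -- equality in the inequalities
  have heq : ∀ x : IrrCharacter G → ℕ, (∀ θ, b θ ≤ x θ) → ∑ θ, b θ * x θ = Nat.card W → ∀ θ, b θ ≠ 0 → b θ = x θ := by
    intro x hx hs θ hθ
    rw [← hBB] at hs
    have h1 := (Finset.sum_eq_sum_iff_of_le (fun θ _ => Nat.mul_le_mul_left (b θ) (hx θ))).1 hs.symm θ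
      (Finset.mem_univ θ)
    exact Nat.eq_of_mul_eq_mul_left (Nat.pos_of_ne_zero hθ) h1
  have h1 : ∀ θ, b θ ≠ 0 → b θ = d 1 θ := by
    refine heq _ (fun θ => fixed_le (stabRes Δ S.iso c ∅) (S.U c) (U_le_B' S c) (isIrr_isCharacter θ.2) (hb θ)
      (hd 1 θ)) ?_
    rw [hsumU, MonoidHom.ker_one, mult_top]
    exact nOrb_U S c
  have h2 : ∀ (k : I) (ψ : ↥(S.U c) →* ℂˣ), ψ ≠ 1 → Vj S c k ≤ ψ.ker → ∀ θ, b θ ≠ 0 → b θ = A k θ + d ψ θ := by
    intro k ψ hψ hV
    have hker : ψ.ker ≠ ⊤ := by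
      intro h
      apply hψ
      ext u
      have h1 : u ∈ ψ.ker := by rw [h]; exact Subgroup.mem_top u
      rw [MonoidHom.mem_ker.1 h1, MonoidHom.one_apply]
    refine heq _ (fun θ => b_le S ht ψ hψ hV (isIrr_isCharacter θ.2) (hA k θ) (hb θ) (hd ψ θ)) ?_
    have h3 : ∀ θ, b θ * (A k θ + d ψ θ) = b θ * A k θ + b θ * d ψ θ := fun θ => mul_add _ _ _
    rw [Finset.sum_congr rfl fun θ _ => h3 θ, Finset.sum_add_distrib, hPP, hsumU, mult_j S hth ht hker hV]
    have h4 : ∀ w : W, ℓ (cs.simple k * w) < ℓ w ↔ ¬ ℓ w < ℓ (cs.simple k * w) := by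
      intro w
      rcases cs.length_simple_mul w k with h5 | h5 <;> omega
    rw [Nat.card_congr (Equiv.subtypeEquivRight h4), ← Nat.card_sum]
    exact Nat.card_congr (Equiv.sumCompl fun w : W => ℓ w < ℓ (cs.simple k * w))
  -- the Steinberg character
  obtain ⟨hirr, hval⟩ := exists_char_alt Δ S.iso htr a ha c (fun K => stabRes Δ S.iso c K)
    fun K g => mem_stabRes Δ S.iso
  set St : G → ℂ := fun g => ∑ K ∈ (Finset.univ : Finset I).powerset, (-1 : ℂ) ^ K.card *
    fixedPointCharacter (stabRes Δ S.iso c K) g with hSt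
  have hSt' : St = fixedPointCharacter (stabRes Δ S.iso c ∅) - fixedPointCharacter (stabRes Δ S.iso c {i}) -
      fixedPointCharacter (stabRes Δ S.iso c {j}) + 1 := funext fun g => st_eq S c hij hI g
  have hSU : ∀ u : ↥(S.U c), St u = if u = 1 then (Nat.card ↥(S.U c) : ℂ) else 0 := by
    intro u
    have h3 := hval c u (S.fix c u u.2)
    rw [hSt]
    beta_reduce
    rw [h3]
    split_ifs with hu
    · rw [← card_opp S c]
      congr 1
      refine Nat.card_congr (Equiv.subtypeEquivRight fun y => ?_)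
      rw [hu, Subgroup.coe_one, one_smul]
      simp
    · rw [Nat.cast_eq_zero, Nat.card_eq_zero]
      left
      refine ⟨fun y => hu ?_⟩
      exact Subtype.ext (S.free c y.1 y.2.1 u u.2 y.2.2)
  have hcU : 2 ∣ Nat.card ↥(S.U c) := by
    obtain ⟨k, hk⟩ := IsPGroup.iff_card.1 (S.isP c)
    rcases Nat.eq_zero_or_pos k with rfl | hk0
    · exfalso
      rw [pow_zero] at hk
      have h3 : Subsingleton ↥(S.U c) := (Nat.card_eq_one_iff_unique.1 hk).1
      apply Vj_ne_top S hth c i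
      rw [eq_top_iff]
      intro u _
      rw [Subsingleton.elim u 1]
      exact one_mem _
    · rw [hk]
      exact dvd_pow_self 2 (by omega)
  -- the Steinberg character itself
  by_cases hχSt : χ = St
  · have h3 : (n : ℂ) = (Nat.card ↥(S.U c) : ℂ) := by
      have h4 := hSU 1
      rw [if_pos rfl, Subgroup.coe_one, ← hχSt, hn] at h4
      exact h4
    have h4 : n = Nat.card ↥(S.U c) := by exact_mod_cast h3
    rw [h4]
    exact hcU
  have hinner : ∀ θ : IrrCharacter G, classInner (θ : G → ℂ) St = (b θ : ℂ) - A i θ - A j θ + classInner (θ : G → ℂ) 1 := by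
    intro θ
    rw [hSt', classInner_add_right, classInner_sub_right, classInner_sub_right,
      classInner_fpc_eq (stabRes Δ S.iso c ∅) (isIrr_isClassFunction θ.2) (hb θ),
      classInner_fpc_eq (stabRes Δ S.iso c {i}) (isIrr_isClassFunction θ.2) (hA i θ),
      classInner_fpc_eq (stabRes Δ S.iso c {j}) (isIrr_isClassFunction θ.2) (hA j θ)]
  have hn1 : ∀ u : ↥(S.U c), u ≠ 1 → St u = 0 := fun u hu => by rw [hSU, if_neg hu]
  -- `St` is not the trivial character
  have hStne : St ≠ 1 := by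
    intro h
    have h3 : Nontrivial ↥(S.U c) := by
      rw [← Finite.one_lt_card_iff_nontrivial]
      exact lt_of_lt_of_le one_lt_two (Nat.le_of_dvd Nat.card_pos hcU)
    obtain ⟨u, hu⟩ := exists_ne (1 : ↥(S.U c))
    have h4 := hn1 u hu
    rw [h, Pi.one_apply] at h4
    exact one_ne_zero h4
  have hbSt : b ⟨St, hirr⟩ ≠ 0 := by
    intro h0
    have h3 := hinner ⟨St, hirr⟩
    have h4 : classInner ((⟨St, hirr⟩ : IrrCharacter G) : G → ℂ) St = 1 := classInner_irr_self hirr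
    have h5 : classInner ((⟨St, hirr⟩ : IrrCharacter G) : G → ℂ) 1 = 0 := classInner_irr_ne hirr isIrr_one hStne
    rw [h4, h5, h0, Nat.cast_zero, add_zero, zero_sub] at h3
    have h6 : ((1 + A i ⟨St, hirr⟩ + A j ⟨St, hirr⟩ : ℕ) : ℂ) = ((0 : ℕ) : ℂ) := by
      push_cast
      rw [h3]
      ring
    have h7 : 1 + A i ⟨St, hirr⟩ + A j ⟨St, hirr⟩ = 0 := by exact_mod_cast h6
    omega
  have hdSt : ∀ ψ : ↥(S.U c) →* ℂˣ, d ψ ⟨St, hirr⟩ = 1 := by
    intro ψ
    have h3 := hd ψ ⟨St, hirr⟩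
    have h4 : tw (S.U c) ψ ((⟨St, hirr⟩ : IrrCharacter G) : G → ℂ) = (Nat.card ↥(S.U c) : ℂ) := by
      change tw (S.U c) ψ St = _
      unfold tw
      rw [Finset.sum_eq_single 1]
      · rw [inv_one, map_one, Units.val_one, one_mul, hSU, if_pos rfl]
      · intro u _ hu
        rw [hn1 u hu, mul_zero]
      · intro h5
        exact absurd (Finset.mem_univ _) h5
    rw [h4] at h3
    have h5 : (Nat.card ↥(S.U c) : ℂ) * ((1 : ℕ) : ℂ) = (Nat.card ↥(S.U c) : ℂ) * (d ψ ⟨St, hirr⟩ : ℂ) := by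
      rw [← h3, Nat.cast_one, mul_one]
    exact_mod_cast (mul_left_cancel₀ hU0 h5).symm
  -- our character
  set θ : IrrCharacter G := ⟨χ, hχ⟩ with hθ
  have hθSt : θ ≠ ⟨St, hirr⟩ := fun h => hχSt (congrArg Subtype.val h)
  have hbθ : b θ ≠ 0 := by
    intro h0
    apply hB
    have h3 := hb θ
    rw [h0, Nat.cast_zero, mul_zero] at h3
    rw [finsum_eq_sum_of_fintype]
    exact h3
  have hrel : b θ = A i θ + A j θ := by
    have h3 := hinner θ
    have h4 : classInner (θ : G → ℂ) St = 0 := classInner_irr_ne hχ hirr hχSt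
    have h5 : classInner (θ : G → ℂ) 1 = 0 := classInner_irr_ne hχ isIrr_one hχ1
    rw [h4, h5, add_zero] at h3
    have h6 : ((b θ : ℕ) : ℂ) = ((A i θ + A j θ : ℕ) : ℂ) := by
      push_cast
      rw [← sub_eq_zero, h3]
      ring
    exact_mod_cast h6
  have hgen : ∀ ψ : ↥(S.U c) →* ℂˣ, ¬ Vj S c i ≤ ψ.ker → ¬ Vj S c j ≤ ψ.ker → d ψ θ = 0 := by
    intro ψ hi hj
    have h3 : Vj S c i ⊓ Vj S c j ≤ ψ.ker := hR.trans (Abelianization.commutator_subset_ker ψ)
    have h4 := hsumU ψ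
    rw [mult_gen S hth ht hij' hI' h3 hi hj] at h4
    by_contra hne
    have h5 : b θ * d ψ θ + b ⟨St, hirr⟩ * d ψ ⟨St, hirr⟩ ≤ 1 := by
      rw [← h4, ← Finset.sum_pair (f := fun θ => b θ * d ψ θ) hθSt]
      exact Finset.sum_le_sum_of_subset (Finset.subset_univ _)
    rw [hdSt, mul_one] at h5
    have h6 : 0 < b θ * d ψ θ := Nat.mul_pos (Nat.pos_of_ne_zero hbθ) (Nat.pos_of_ne_zero hne)
    omega
  have hval : ∀ ψ : ↥(S.U c) →* ℂˣ, d ψ θ = (if ψ = 1 then b θ else 0) +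
      (if ψ ≠ 1 ∧ Vj S c i ≤ ψ.ker then A j θ else 0) + (if ψ ≠ 1 ∧ Vj S c j ≤ ψ.ker then A i θ else 0) := by
    intro ψ
    by_cases h3 : ψ = 1
    · subst h3
      simp [h1 θ hbθ]
    · rw [if_neg h3]
      by_cases hi : Vj S c i ≤ ψ.ker
      · by_cases hj : Vj S c j ≤ ψ.ker
        · exfalso
          apply h3
          have h4 := eq_top_of_both S hth ht hij' hi hj
          ext u
          have h5 : u ∈ ψ.ker := by rw [h4]; exact Subgroup.mem_top u
          rw [MonoidHom.mem_ker.1 h5, MonoidHom.one_apply]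
        · rw [if_pos ⟨h3, hi⟩, if_neg fun h => hj h.2]
          have := h2 i ψ h3 hi θ hbθ
          omega
      · rw [if_neg fun h => hi h.2]
        by_cases hj : Vj S c j ≤ ψ.ker
        · rw [if_pos ⟨h3, hj⟩]
          have := h2 j ψ h3 hj θ hbθ
          omega
        · rw [if_neg fun h => hj h.2, hgen ψ hi hj]
  obtain ⟨k, hk⟩ := parity_two (S.U c) (S.isP c) (isIrr_isCharacter hχ) (fun ψ => d ψ θ) (fun ψ => hd ψ θ) hn
  have := Vj_normal S c i
  have := Vj_normal S c j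
  obtain ⟨x, hx⟩ := odd_card (S.isP c) (Vj_ne_top S hth c i)
  obtain ⟨y, hy⟩ := odd_card (S.isP c) (Vj_ne_top S hth c j)
  rw [Finset.sum_congr rfl fun ψ _ => hval ψ, Finset.sum_add_distrib, Finset.sum_add_distrib,
    Finset.sum_ite_eq' Finset.univ (1 : ↥(S.U c) →* ℂˣ), if_pos (Finset.mem_univ _), ← Finset.sum_filter,
    ← Finset.sum_filter, Finset.sum_const, Finset.sum_const, smul_eq_mul, smul_eq_mul] at hk
  rw [hk]
  have e1 : (Finset.univ.filter fun ψ : ↥(S.U c) →* ℂˣ => ψ ≠ 1 ∧ Vj S c i ≤ ψ.ker).card = 2 * x + 1 := by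
    convert hx
  have e2 : (Finset.univ.filter fun ψ : ↥(S.U c) →* ℂˣ => ψ ≠ 1 ∧ Vj S c j ≤ ψ.ker).card = 2 * y + 1 := by
    convert hy
  rw [e1, e2, hrel]
  exact ⟨A i θ + A j θ + x * A j θ + y * A i θ + k, by ring⟩

end Main

end Cfsg.Agent.H743.EP
end

-- part: H743/EP/EvenBN
section
/-!
# Even degrees for a split (B,N)-pair of rank two in characteristic two (helper743)
-/

set_option autoImplicit false
set_option linter.unusedSectionVars false

universe u

namespace Cfsg.Agent.H743.EP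

open MulAction Cfsg Cfsg.Agent.Characters.Core Cfsg.Agent.Tits.Core Cfsg.Agent.Tits.Core.Bldg
  Cfsg.Agent.Tits.Exchange Cfsg.Agent.FixBN Cfsg.Agent.Tits Cfsg.Agent.H114.StRegular
  Cfsg.Agent.Tits.OfBN Cfsg.Agent.Tits.OppRes Cfsg.Agent.LieExceptional.BNPairCore
open scoped ComplexConjugate

theorem even_bn {G : Type u} [Group G] [Finite G] {P : Cfsg.BNPair G} {U : Subgroup G} (Sp : Split P 2 U) {a b : G}
    (hPS : P.S = {a, b}) (hab : a ≠ b) (hR : ∀ u ∈ U, a⁻¹ * u * a ∈ U → b⁻¹ * u * b ∈ U → u ∈ ⁅U, U⁆) {χ : G → ℂ}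
    (hχ : IsIrrCharacter G χ) (hχ1 : χ ≠ 1) (hB : ∑ᶠ y : P.B, χ y ≠ 0) {n : ℕ} (hn : χ 1 = n) : 2 ∣ n := by
  classical
  have hfact : Fact (Nat.Prime 2) := ⟨Nat.prime_two⟩
  have hN := normal_subgroupOf P
  obtain ⟨M', cs', hcs'⟩ := S0320.result P
  have m1 : a ∈ P.S := by rw [hPS]; exact Set.mem_insert _ _
  have m2 : b ∈ P.S := by rw [hPS]; exact Set.mem_insert_of_mem _ rfl
  let f : Fin 2 → P.S := ![⟨a, m1⟩, ⟨b, m2⟩]
  have hf : Function.Bijective f := by
    constructor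
    · intro i j hij
      fin_cases i <;> fin_cases j
      · rfl
      · exact absurd (congrArg Subtype.val hij) hab
      · exact absurd (congrArg Subtype.val hij).symm hab
      · rfl
    · rintro ⟨x, hx⟩
      have h1 := hx
      rw [hPS] at h1
      rcases h1 with rfl | rfl
      · exact ⟨0, rfl⟩
      · exact ⟨1, rfl⟩
  let e : Fin 2 ≃ P.S := _root_.Equiv.ofBijective f hf
  set cs := cs'.reindex e.symm with hcsdef
  have hcs : ∀ i, cs.simple i = QuotientGroup.mk (⟨(e i : G), P.subset (e i).2⟩ : P.N) := fun i => by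
    rw [hcsdef, CoxeterSystem.reindex_simple, hcs']
    rfl
  have hW : Finite (WP P) := inferInstance
  have Fc : Cox cs := inferInstance
  have : Fintype (G ⧸ P.B) := Fintype.ofFinite _
  set Δ := bldg P e cs hcs with hΔ
  set S := FixBN.OfBN.sys e cs hcs Sp with hS
  set c : G ⧸ P.B := QuotientGroup.mk 1 with hc
  have hth : Δ.Thick := thick P e cs hcs
  have htr : ∀ x y x' y', Δ.δ x y = Δ.δ x' y' → ∃ g : G, g • x = x' ∧ g • y = y' :=
    fun x y x' y' hd => Cfsg.Agent.Tits.OfBN.trans P x y x' y' hd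
  -- the apartment
  let ap : WP P → G ⧸ P.B := fun w => QuotientGroup.mk ((w.out : P.N) : G)
  have hap : ∀ v w, Δ.δ (ap v) (ap w) = v⁻¹ * w := by
    intro v w
    show dist P (QuotientGroup.mk ((v.out : P.N) : G)) (QuotientGroup.mk ((w.out : P.N) : G)) = _
    rw [dist_mk]
    have h1 : ((v.out : P.N) : G)⁻¹ * ((w.out : P.N) : G) = ((v.out⁻¹ * w.out : P.N) : G) := by push_cast; rfl
    rw [h1, wt_of_mem P (n := v.out⁻¹ * w.out) (LieExceptional.BNPairCore.self_mem_C _), QuotientGroup.mk_mul,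
      QuotientGroup.mk_inv, QuotientGroup.out_eq', QuotientGroup.out_eq']
  -- the subgroup `U`
  have hSU : ∀ (g u : G), u ∈ S.U (QuotientGroup.mk g) ↔ g⁻¹ * u * g ∈ U := fun g u => FixBN.OfBN.mem_UU Sp
  have hSU1 : S.U c = U := by
    ext u
    rw [hc, hSU]
    simp
  have hVj : ∀ i (u : S.U c), u ∈ Vj S c i → ((e i : P.S) : G)⁻¹ * (u : G) * ((e i : P.S) : G) ∈ U := by
    intro i u hu
    rw [← hSU]
    refine hu _ ?_
    rw [← Pan_eq_Res]
    right
    show dist P (QuotientGroup.mk 1) (QuotientGroup.mk ((e i : P.S) : G)) = _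
    rw [dist_mk, inv_one, one_mul, hcs,
      wt_of_mem P (n := (⟨((e i : P.S) : G), P.subset (e i).2⟩ : P.N)) (LieExceptional.BNPairCore.self_mem_C _)]
  have hR' : Vj S c 0 ⊓ Vj S c 1 ≤ commutator (S.U c) := by
    intro u hu
    have h1 := hVj 0 u hu.1
    have h2 := hVj 1 u hu.2
    have hu' : (u : G) ∈ U := by rw [← hSU1]; exact u.2
    have h6 : ⁅U, U⁆ = ⁅S.U c, S.U c⁆ := by rw [hSU1]
    have h3 : (u : G) ∈ ⁅S.U c, S.U c⁆ := by
      rw [← h6]
      exact hR u hu' h1 h2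
    have h4 : ⁅S.U c, S.U c⁆ = Subgroup.map (S.U c).subtype ⁅(⊤ : Subgroup ↥(S.U c)), ⊤⁆ := by
      rw [Subgroup.map_commutator, ← MonoidHom.range_eq_map, Subgroup.range_subtype]
    rw [h4] at h3
    obtain ⟨v, hv, hvu⟩ := h3
    have h5 : v = u := Subtype.ext hvu
    rw [← h5]
    exact hv
  have hstab : stabRes Δ S.iso c ∅ = P.B := by
    ext g
    rw [mem_B S, hc, FixBN.OfBN.smul_mk_eq]
    simp
  have hB' : ∑ᶠ y : ↥(stabRes Δ S.iso c ∅), χ y ≠ 0 := by
    rw [hstab]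
    exact hB
  exact even_two S hth htr ap hap (i := 0) (j := 1) (by decide) (by decide) c hR' hχ hχ1 hB' hn

end Cfsg.Agent.H743.EP
end

-- part: H743/EP/TwFComm
section
/-!
# `²F₄(q)`, `q > 2`: `⟨X_2, …, X_7⟩ ≤ [U, U]` (helper743)
-/

set_option autoImplicit false
set_option linter.unusedSectionVars false

namespace Cfsg.Agent.H743.EP.TwF

open Cfsg.Agent.SplitTwo Cfsg.Agent.SplitTwo.ZS Cfsg.Agent.TitsThree.RankTwoZ Cfsg.Agent.KFacts.TwF4
open Cfsg.Agent.KFacts.TwF4.Full Cfsg.Agent.KFacts.TwF4.SylU Cfsg.Agent.KFacts.TwF4.Inv Cfsg.Agent.KFacts.TwF4.Arc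
open Cfsg.Agent.SplitTwo.RootSysZ Subgroup

universe u

section ab

variable {G : Type u} [Group G] (H : Subgroup G)

open Classical in
/-- the class in the abelianization of `H` -/
noncomputable def ab (g : G) : Abelianization ↥H := if h : g ∈ H then Abelianization.of ⟨g, h⟩ else 1

variable {H}

theorem ab_of {g : G} (h : g ∈ H) : ab H g = Abelianization.of ⟨g, h⟩ := by
  unfold ab
  rw [dif_pos h]

theorem ab_mul {x y : G} (hx : x ∈ H) (hy : y ∈ H) : ab H (x * y) = ab H x * ab H y := by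
  rw [ab_of hx, ab_of hy, ab_of (mul_mem hx hy), ← map_mul]
  rfl

theorem ab_rel {x y r : G} (hx : x ∈ H) (hy : y ∈ H) (hr : r ∈ H) (h : x * y = y * x * r) : ab H r = 1 := by
  have h1 := congrArg (ab H) h
  rw [ab_mul (mul_mem hy hx) hr, ab_mul hy hx, ab_mul hx hy, mul_comm (ab H x)] at h1
  exact mul_eq_left.1 h1.symm

theorem mem_of_ab {x : G} (hx : x ∈ H) (h : ab H x = 1) : x ∈ ⁅H, H⁆ := by
  rw [ab_of hx] at h
  have h1 : (⟨x, hx⟩ : H) ∈ commutator ↥H := (QuotientGroup.eq_one_iff _).1 h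
  have h2 : ⁅H, H⁆ = Subgroup.map H.subtype ⁅(⊤ : Subgroup ↥H), ⊤⁆ := by
    rw [Subgroup.map_commutator, ← MonoidHom.range_eq_map, Subgroup.range_subtype]
  rw [h2]
  exact ⟨_, h1, rfl⟩

end ab

variable {F : Type*} [Field F] {σ : F →+* F} {G : Type u} [Group G] (S : Full σ G)

/-- **`⟨X_2, …, X_7⟩ ≤ [U, U]`** -/
theorem J27_le (hF : ∃ c : Fˣ, c ≠ 1) : J S.XZ 2 7 ≤ ⁅J S.XZ 1 8, J S.XZ 1 8⁆ := by
  set H := J S.XZ 1 8 with hH
  have m1 : ∀ t, S.o 0 t ∈ H := fun t => mem_J (S.mX1 t) (by norm_num) (by norm_num)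
  have m2 : ∀ p u, S.e 1 p u ∈ H := fun p u => mem_J (S.mX2 p u) (by norm_num) (by norm_num)
  have m3 : ∀ t, S.o 1 t ∈ H := fun t => mem_J (S.mX3 t) (by norm_num) (by norm_num)
  have m4 : ∀ p u, S.e 2 p u ∈ H := fun p u => mem_J (S.mX4 p u) (by norm_num) (by norm_num)
  have m5 : ∀ t, S.o 2 t ∈ H := fun t => mem_J (S.mX5 t) (by norm_num) (by norm_num)
  have m6 : ∀ p u, S.e 3 p u ∈ H := fun p u => mem_J (S.mX6 p u) (by norm_num) (by norm_num)
  have m7 : ∀ t, S.o 3 t ∈ H := fun t => mem_J (S.mX7 t) (by norm_num) (by norm_num)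
  have m8 : ∀ p u, S.e 4 p u ∈ H := fun p u => mem_J (S.mX8 p u) (by norm_num) (by norm_num)
  -- the odd root groups
  have o1 : ∀ t, ab H (S.o 1 t) = 1 := fun t => by
    have h := S.e_e1 1 t 0 1 0
    rw [mul_one, show (1 : ZMod 8) + 1 = 2 by decide] at h
    exact ab_rel (m2 t 0) (m4 1 0) (m3 t) h
  have o2 : ∀ t, ab H (S.o 2 t) = 1 := fun t => by
    have h := S.e_e1 2 t 0 1 0
    rw [mul_one, show (2 : ZMod 8) + 1 = 3 by decide] at h
    exact ab_rel (m4 t 0) (m6 1 0) (m5 t) h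
  have o3 : ∀ t, ab H (S.o 3 t) = 1 := fun t => by
    have h := S.e_e1 3 t 0 1 0
    rw [mul_one, show (3 : ZMod 8) + 1 = 4 by decide] at h
    exact ab_rel (m6 t 0) (m8 1 0) (m7 t) h
  -- the centres of the even root groups
  have z1 : ∀ t, ab H (S.e 1 0 t) = 1 := fun t => by
    have h := S.o_e2 0 t 1 0
    rw [mul_one, show (0 : ZMod 8) + 2 = 2 by decide, show (0 : ZMod 8) + 1 = 1 by decide] at h
    exact ab_rel (m1 t) (m4 1 0) (m2 0 t) h
  have z2 : ∀ t, ab H (S.e 2 0 t) = 1 := fun t => by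
    have h := S.o_e2 1 t 1 0
    rw [mul_one, show (1 : ZMod 8) + 2 = 3 by decide, show (1 : ZMod 8) + 1 = 2 by decide] at h
    exact ab_rel (m3 t) (m6 1 0) (m4 0 t) h
  have z3 : ∀ t, ab H (S.e 3 0 t) = 1 := fun t => by
    have h := S.o_e2 2 t 1 0
    rw [mul_one, show (2 : ZMod 8) + 2 = 4 by decide, show (2 : ZMod 8) + 1 = 3 by decide] at h
    exact ab_rel (m5 t) (m8 1 0) (m6 0 t) h
  -- reduction to the first coordinate
  have r1 : ∀ p u, ab H (S.e 1 p u) = ab H (S.e 1 p 0) := fun p u => by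
    have h := S.e_mul 1 p 0 0 u
    rw [add_zero, zero_add, map_zero, mul_zero, add_zero] at h
    rw [← h, ab_mul (m2 p 0) (m2 0 u), z1, mul_one]
  have r2 : ∀ p u, ab H (S.e 2 p u) = ab H (S.e 2 p 0) := fun p u => by
    have h := S.e_mul 2 p 0 0 u
    rw [add_zero, zero_add, map_zero, mul_zero, add_zero] at h
    rw [← h, ab_mul (m4 p 0) (m4 0 u), z2, mul_one]
  have r3 : ∀ p u, ab H (S.e 3 p u) = ab H (S.e 3 p 0) := fun p u => by
    have h := S.e_mul 3 p 0 0 u
    rw [add_zero, zero_add, map_zero, mul_zero, add_zero] at h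
    rw [← h, ab_mul (m6 p 0) (m6 0 u), z3, mul_one]
  -- `[X_2, X_8]`
  have k1 : ∀ p q, ab H (S.e 2 (σ p * q) 0) * ab H (S.e 3 (p * σ q) 0) = 1 := fun p q => by
    have h := S.e_e3 1 p 0 q 0
    rw [show (1 : ZMod 8) + 3 = 4 by decide, show (1 : ZMod 8) + 1 = 2 by decide,
      show (1 : ZMod 8) + 2 = 3 by decide] at h
    simp only [mul_assoc (S.e 4 q 0 * S.e 1 p 0)] at h
    have h1 := ab_rel (m2 p 0) (m8 q 0) ?_ h
    · rw [ab_mul, ab_mul, ab_mul, ab_mul, o1, o2, o3, r2, r3, one_mul, mul_one, mul_one] at h1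
      · exact h1
      all_goals first | exact m7 _ | exact m6 _ _ | exact m5 _ | exact m4 _ _ | exact m3 _ | exact mul_mem (m3 _) (m4 _ _) | exact mul_mem (mul_mem (m3 _) (m4 _ _)) (m5 _) | exact mul_mem (mul_mem (mul_mem (m3 _) (m4 _ _)) (m5 _)) (m6 _ _)
    · exact mul_mem (mul_mem (mul_mem (mul_mem (m3 _) (m4 _ _)) (m5 _)) (m6 _ _)) (m7 _)
  -- `[X_1, X_8]`
  have k2 : ∀ t q v, ab H (S.e 1 (t * q) 0) * ab H (S.e 2 (σ t * q * σ q + σ t * v) 0) * ab H (S.e 3 (t * v) 0) = 1 := by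
    intro t q v
    have h := S.o_e4 0 t q v
    rw [show (0 : ZMod 8) + 4 = 4 by decide, show (0 : ZMod 8) + 1 = 1 by decide,
      show (0 : ZMod 8) + 2 = 2 by decide, show (0 : ZMod 8) + 3 = 3 by decide] at h
    simp only [mul_assoc (S.e 4 q v * S.o 0 t)] at h
    have h1 := ab_rel (m1 t) (m8 q v) ?_ h
    · rw [ab_mul, ab_mul, ab_mul, ab_mul, ab_mul, o1, o2, o3, r1, r2, r3, mul_one, mul_one, mul_one] at h1
      · exact h1
      all_goals first | exact m7 _ | exact m6 _ _ | exact m5 _ | exact m4 _ _ | exact m3 _ | exact m2 _ _ | exact mul_mem (m2 _ _) (m3 _) | exact mul_mem (mul_mem (m2 _ _) (m3 _)) (m4 _ _) | exact mul_mem (mul_mem (mul_mem (m2 _ _) (m3 _)) (m4 _ _)) (m5 _) | exact mul_mem (mul_mem (mul_mem (mul_mem (m2 _ _) (m3 _)) (m4 _ _)) (m5 _)) (m6 _ _)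
    · exact mul_mem (mul_mem (mul_mem (mul_mem (mul_mem (m2 _ _) (m3 _)) (m4 _ _)) (m5 _)) (m6 _ _)) (m7 _)
  -- the first coordinates
  have s3 : ∀ p, ab H (S.e 3 p 0) * ab H (S.e 3 p 0) = 1 := fun p => by
    have h := S.e_mul 3 p 0 p 0
    have h2 : p + p = 0 := by rw [← two_mul, S.two, zero_mul]
    rw [h2] at h
    rw [← ab_mul (m6 p 0) (m6 p 0), h, z3]
  have add3 : ∀ p q, ab H (S.e 3 (p + q) 0) = ab H (S.e 3 p 0) * ab H (S.e 3 q 0) := fun p q => by
    have h := S.e_mul 3 p 0 q 0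
    rw [← ab_mul (m6 p 0) (m6 q 0), h]
    exact (r3 _ _).symm
  have k3 : ∀ t v, ab H (S.e 2 (σ t * v) 0) * ab H (S.e 3 (t * v) 0) = 1 := fun t v => by
    have h := k2 t 0 v
    rw [mul_zero, z1, one_mul, mul_zero, zero_mul, zero_add] at h
    exact h
  have k4 : ∀ t v, ab H (S.e 3 (t * (σ v + v)) 0) = 1 := fun t v => by
    have h1 := k1 t v
    have h2 := k3 t v
    have h3 : ab H (S.e 3 (t * σ v) 0) = ab H (S.e 3 (t * v) 0) := mul_left_cancel (h1.trans h2.symm)
    rw [mul_add, add3, h3, s3]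
  obtain ⟨c, hc⟩ := hF
  have hc' : σ (c : F) + c ≠ 0 := by
    intro h
    have h1 : σ (c : F) = c := by
      have h2 : (c : F) + c = 0 := by rw [← two_mul, S.two, zero_mul]
      exact add_right_cancel (h.trans h2.symm)
    have h2 := S.sq (c : F)
    rw [h1, h1, pow_two] at h2
    apply hc
    apply Units.ext
    rw [Units.val_one]
    exact (mul_eq_left₀ c.ne_zero).1 h2.symm
  have e3 : ∀ p, ab H (S.e 3 p 0) = 1 := fun p => by
    have h := k4 (p / (σ (c : F) + c)) c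
    rwa [div_mul_cancel₀ _ hc'] at h
  have e2 : ∀ p, ab H (S.e 2 p 0) = 1 := fun p => by
    have h := k3 1 p
    rw [map_one, one_mul, e3, mul_one] at h
    exact h
  have e1 : ∀ p, ab H (S.e 1 p 0) = 1 := fun p => by
    have h := k2 1 p 0
    rw [e2, e3, mul_one, mul_one, one_mul] at h
    exact h
  refine J_le fun k hk1 hk2 x hx => ?_
  have hk : k = 2 ∨ k = 3 ∨ k = 4 ∨ k = 5 ∨ k = 6 ∨ k = 7 := by omega
  rcases hk with rfl | rfl | rfl | rfl | rfl | rfl
  · obtain ⟨p, u, rfl⟩ := S.X2 hx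
    exact mem_of_ab (m2 p u) ((r1 p u).trans (e1 p))
  · obtain ⟨t, rfl⟩ := S.X3 hx
    exact mem_of_ab (m3 t) (o1 t)
  · obtain ⟨p, u, rfl⟩ := S.X4 hx
    exact mem_of_ab (m4 p u) ((r2 p u).trans (e2 p))
  · obtain ⟨t, rfl⟩ := S.X5 hx
    exact mem_of_ab (m5 t) (o2 t)
  · obtain ⟨p, u, rfl⟩ := S.X6 hx
    exact mem_of_ab (m6 p u) ((r3 p u).trans (e3 p))
  · obtain ⟨t, rfl⟩ := S.X7 hx
    exact mem_of_ab (m7 t) (o3 t)

end Cfsg.Agent.H743.EP.TwF
end

-- part: H743/EP/TwF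
section
/-!
# S4929: the groups `²F₄(q)`, `q > 2` (helper743)

`row_tf4`
-/

set_option autoImplicit false
set_option linter.unusedSectionVars false

namespace Cfsg.Agent.H743.EP.TwF

open Cfsg Cfsg.Agent.SplitTwo Cfsg.Agent.SplitTwo.ZS Cfsg.Agent.TitsThree.RankTwoZ Cfsg.Agent.KFacts.TwF4
open Cfsg.Agent.KFacts.TwF4.Full Cfsg.Agent.KFacts.TwF4.SylU Cfsg.Agent.KFacts.TwF4.Inv Cfsg.Agent.KFacts.TwF4.Arc
open Cfsg.Agent.SplitTwo.RootSysZ Subgroup Cfsg.Agent.Characters.Core Cfsg.Agent.H892.EP Cfsg.Agent.H966.EP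
open Cfsg.Agent.H743.AH.TwF

universe u

variable {F : Type*} [Field F] {σ : F →+* F} {G : Type u} [Group G] (S : Full σ G) [Finite F] [Finite G]
  (hF : ∃ c : Fˣ, c ≠ 1)

include hF in
/-- `U ∩ U^{n₁} ∩ U^{n₂} ≤ [U, U]` -/
theorem hR_aux {u : G} (hu : u ∈ J S.XZ 1 8) (h1 : S.n1⁻¹ * u * S.n1 ∈ J S.XZ 1 8)
    (h2 : S.n2⁻¹ * u * S.n2 ∈ J S.XZ 1 8) : u ∈ ⁅J S.XZ 1 8, J S.XZ 1 8⁆ := by
  have Z8 := S.zsys8
  have k1 : u ∈ J S.XZ 2 8 := by
    obtain ⟨r, hr, y, hy, rfl⟩ := Z8.split_ll (a := 1) (b := 8) (by norm_num) (by norm_num) hu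
    have h3 : S.n1⁻¹ * y * S.n1 ∈ J S.XZ 2 8 := S.n1_refl.mem_J_inv hy (by norm_num) (by norm_num)
    have h4 : S.n1⁻¹ * r * S.n1 ∈ S.XZ 9 := S.n1_refl.mem_inv hr (by norm_num)
    have h5 : S.n1⁻¹ * r * S.n1 ∈ J S.XZ 1 8 := by
      have e : S.n1⁻¹ * r * S.n1 = (S.n1⁻¹ * (r * y) * S.n1) * (S.n1⁻¹ * y * S.n1)⁻¹ := by group
      rw [e]
      exact mul_mem h1 (inv_mem (J_mono (by norm_num) le_rfl h3))
    have h6 := inter_nine S hF h4 h5
    have h7 : r = 1 := by
      have e : r = S.n1 * (S.n1⁻¹ * r * S.n1) * S.n1⁻¹ := by group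
      rw [e, h6]; group
    rw [h7, one_mul]
    exact hy
  have k2 : u ∈ J S.XZ 1 7 := by
    obtain ⟨r, hr, y, hy, rfl⟩ := Z8.split_rl (a := 1) (b := 8) (by norm_num) (by norm_num) hu
    have h3 : S.n2⁻¹ * y * S.n2 ∈ J S.XZ 1 7 := S.n2_refl.mem_J_inv hy (by norm_num) (by norm_num)
    have h4 : S.n2⁻¹ * r * S.n2 ∈ S.XZ 0 := S.n2_refl.mem_inv hr (by norm_num)
    have h5 : S.n2⁻¹ * r * S.n2 ∈ J S.XZ 1 8 := by
      have e : S.n2⁻¹ * r * S.n2 = (S.n2⁻¹ * (r * y) * S.n2) * (S.n2⁻¹ * y * S.n2)⁻¹ := by group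
      rw [e]
      exact mul_mem h2 (inv_mem (J_mono le_rfl (by norm_num) h3))
    have h6 := (S.J07_inf_UT h4 h5 (one_mem _) (by rw [mul_one])).1
    have h7 : r = 1 := by
      have e : r = S.n2 * (S.n2⁻¹ * r * S.n2) * S.n2⁻¹ := by group
      rw [e, h6]; group
    rw [h7, one_mul]
    exact hy
  exact J27_le S hF (Z8.inter_J 1 k1 k2 (e := 2) (f := 7) (by norm_num) (by norm_num) (by norm_num) (by norm_num)
    (by norm_num) (by norm_num))

theorem n2_inv : S.n2⁻¹ = S.n2 := inv_eq_of_mul_eq_one_right S.n2_sq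

theorem n2_conj_T {t : G} (ht : t ∈ S.T) : S.n2⁻¹ * t * S.n2 ∈ S.T := by
  obtain ⟨c, d, rfl⟩ := S.mem_T.1 ht
  have h1 := S.n2_h c d
  have h2 : S.n2⁻¹ * S.h c d * S.n2 = S.n2 * S.h c d * S.n2⁻¹ := by rw [n2_inv]
  rw [h2, h1]
  exact S.mem_T.2 ⟨_, _, rfl⟩

section BN

open Cfsg.Agent.FixBN

variable (hR : S.R.p = 2) {P : Cfsg.BNPair G} (Sp : Split P 2 (J S.XZ 1 8))

include Sp in
theorem n2_notMem : S.n2 ∉ P.B := by
  intro h
  obtain ⟨x, hx, hx1⟩ := S.zsys8.exists_ne 8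
  have h1 := Sp.norm S.n2 h x (mem_J hx (by norm_num) le_rfl)
  have h2 : S.n2 * x * S.n2⁻¹ ∈ S.XZ 0 := S.n2_refl.mem' hx (by norm_num)
  exact hx1 (conj_eq_one_iff.1 (S.J07_inf_UT h2 h1 (one_mem _) (by rw [mul_one])).1)

/-- powers of elements of `U T` -/
theorem pow_form {b t : G} (hb : b ∈ J S.XZ 1 8) (ht : t ∈ S.T) (m : ℕ) :
    ∃ b' ∈ J S.XZ 1 8, (b * t) ^ m = b' * t ^ m := by
  induction m with
  | zero => exact ⟨1, one_mem _, by simp⟩
  | succ m ih =>
    obtain ⟨b', hb', e⟩ := ih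
    refine ⟨b' * (t ^ m * b * (t ^ m)⁻¹), mul_mem hb' (S.T_conj_J (pow_mem ht m) hb), ?_⟩
    rw [pow_succ, e, pow_succ]
    group

include hF hR Sp in
/-- the order of `B` -/
theorem dvd_of_dvd_B {p : ℕ} [Fact p.Prime] (hp2 : p ≠ 2) (h : p ∣ Nat.card P.B) : p ∣ Nat.card Fˣ := by
  obtain ⟨b, hb⟩ := exists_prime_orderOf_dvd_card' p h
  obtain ⟨u, hu, t, ht, e⟩ := B_form S hF hR Sp b.2
  obtain ⟨u', hu', e'⟩ := pow_form S hu ht (Nat.card Fˣ)
  have ht1 : t ^ Nat.card Fˣ = 1 := by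
    obtain ⟨c, d, rfl⟩ := S.mem_T.1 ht
    rw [h_pow S, pow_card_eq_one', pow_card_eq_one', S.h_one]
  rw [ht1, mul_one, ← e] at e'
  obtain ⟨k, hk⟩ := Sp.isP ⟨u', hu'⟩
  have hk' : u' ^ 2 ^ k = 1 := congrArg Subtype.val hk
  rw [← e', ← pow_mul] at hk'
  have h1 : orderOf (b : G) ∣ Nat.card Fˣ * 2 ^ k := orderOf_dvd_of_pow_eq_one hk'
  rw [Subgroup.orderOf_coe, hb] at h1
  rcases (Fact.out : p.Prime).dvd_mul.1 h1 with h2 | h2
  · exact h2
  · exact absurd ((Nat.prime_dvd_prime_iff_eq Fact.out Nat.prime_two).1 ((Fact.out : p.Prime).dvd_of_dvd_pow h2)) hp2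

include hF hR Sp in
theorem exists_mem {p : ℕ} [Fact p.Prime] (hp2 : p ≠ 2) (hd : p ∣ Nat.card G) {M : Ideal AlgInt} (hM : IsPModular p M) :
    ∃ χ ∈ principalBlock M G, χ ≠ oneChar G ∧ md P.B (χ : G → ℂ) ≠ 0 := by
  by_cases hB : p ∣ Nat.card P.B
  · obtain ⟨d, hd'⟩ := exists_prime_orderOf_dvd_card' p (dvd_of_dvd_B S hF hR Sp hp2 hB)
    have hd1 : d ≠ 1 := by
      rintro rfl
      rw [orderOf_one] at hd'
      exact (Fact.out : p.Prime).one_lt.ne hd'
    have hdp : d ^ p = 1 := by rw [← hd', pow_orderOf_eq_one]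
    set t := S.h (Units.map (σ : F →* F) d) d with ht
    have ht4 : t ∈ S.Tk 4 := by
      have h1 := (AutTau.mem_Tk_even S 2 (Units.map (σ : F →* F) d) d).2 (by
        show chE σ 2 (Units.map (σ : F →* F) d) d = 1
        rw [chE_two, div_self'])
      norm_num at h1
      exact h1
    have htp : t ^ p = 1 := by rw [ht, h_pow S, ← map_pow, hdp, map_one, S.h_one]
    have ht1 : t ≠ 1 := by
      rw [ht, ← S.h_one]
      intro h
      exact hd1 (S.h_inj _ _ _ _ h).2
    have hot : orderOf t = p := orderOf_eq_prime htp ht1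
    have hTB : S.T ≤ P.B := T_le_B S Sp
    -- the parabolic subgroup
    have hnorm : ∀ x ∈ S.T, ∀ z ∈ S.PL, x * z * x⁻¹ ∈ S.PL := fun x hx z hz => S.T_conj_J hx hz
    have hBH : P.B ≤ S.T ⊔ S.PL := by
      intro b hb
      obtain ⟨u, hu, s, hs, rfl⟩ := B_form S hF hR Sp hb
      exact mul_mem (Subgroup.mem_sup_right (J_mono (by norm_num) le_rfl hu)) (Subgroup.mem_sup_left hs)
    have htH : t ∈ S.T ⊔ S.PL := Subgroup.mem_sup_left ht4.1
    have hnH : S.n2 ∈ S.T ⊔ S.PL := Subgroup.mem_sup_right S.n2_mem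
    refine exists_over_md hM (S.T ⊔ S.PL) P.B hBH ?_
    refine exists_of_fixed hM (P.B.subgroupOf (S.T ⊔ S.PL)) (x := ⟨t, htH⟩) (n := ⟨S.n2, hnH⟩)
      ⟨1, by rw [Subgroup.orderOf_mk, hot, pow_one]⟩ ?_ ?_
    · rw [Subgroup.mem_subgroupOf]
      exact n2_notMem S Sp
    · rintro ⟨g, hg⟩ hgc
      have hgc' : g * t = t * g := congrArg Subtype.val hgc
      rw [Subgroup.mem_subgroupOf, Subgroup.mem_subgroupOf]
      show g ∈ P.B ∧ S.n2⁻¹ * g * S.n2 ∈ P.B
      obtain ⟨s, hs, y, hy, rfl⟩ := mem_sup_of_norm hnorm hg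
      have hyc : y * t = t * y := by
        have h1 : s * (y * t) = s * (t * y) := by
          rw [← mul_assoc, hgc', ← mul_assoc, ← mul_assoc, S.T_comm hs ht4.1]
        exact mul_left_cancel h1
      obtain ⟨x, hx, r, hr, rfl⟩ := S.centralizer_Tk hy ht4 ht1 hyc
      have hXB : S.XZ 4 ≤ P.B := fun x hx => Sp.le (mem_J hx (by norm_num) (by norm_num))
      refine ⟨mul_mem (hTB hs) (mul_mem (hXB hx) (hTB hr.1)), ?_⟩
      have e : S.n2⁻¹ * (s * (x * r)) * S.n2 = (S.n2⁻¹ * s * S.n2) * ((S.n2⁻¹ * x * S.n2) * (S.n2⁻¹ * r * S.n2)) := by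
        group
      rw [e]
      exact mul_mem (hTB (n2_conj_T S hs)) (mul_mem (hXB (S.n2_refl.mem_inv hx (by norm_num)))
        (hTB (n2_conj_T S hr.1)))
  · exact exists_of_coprime hM P.B hd hB

end BN

section Final

open Cfsg.Lie Cfsg.Agent.FixBN

/-- **The groups `²F₄(q)`, `q > 2`.** -/
theorem ev_twF4 {K : Type u} [Field K] [Fintype K] {m : ℕ} (hm : 1 ≤ m) (hK : Fintype.card K = 2 ^ (2 * m + 1)) :
    Ev ↥(twistedF4 K (2 ^ m)) := by
  intro p hp hp2 hd M hM
  have : Fact p.Prime := ⟨hp⟩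
  have := Cfsg.Agent.ChevalleyStructure.TwF4.Twisted.charP_two hK
  have hfin : Finite ↥(twistedF4 K (2 ^ m)) := inferInstance
  have hFc : Nat.card K = 2 ^ (2 * m + 1) := by rw [Nat.card_eq_fintype_card, hK]
  have h8 : 8 ≤ Nat.card K := by
    rw [hFc]
    calc 8 = 2 ^ 3 := by norm_num
      _ ≤ _ := Nat.pow_le_pow_right (by norm_num) (by omega)
  have hF : ∃ c : Kˣ, c ≠ 1 := by
    have h1 : 1 < Nat.card Kˣ := by
      rw [Nat.card_units]
      omega
    have h2 : Nontrivial Kˣ := Finite.one_lt_card_iff_nontrivial.1 h1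
    exact exists_ne 1
  obtain ⟨φ, S, P, hR, Sp, hPS, hTN⟩ := exists_bn hK
  obtain ⟨χ, hχ, hne, hmd⟩ := exists_mem S hF hR Sp hp2 hd hM
  refine ⟨χ, hχ, ?_⟩
  refine even_bn Sp hPS (n1_ne_n2 S) (fun u hu h1 h2 => hR_aux S hF hu h1 h2) χ.2
    (fun h => hne (Subtype.ext h)) (fun h => hmd ((md_eq_zero_iff _ _).2 h))
    (Cfsg.Agent.Blocks.Basic.irr_one_eq_charDegree χ.2)

end Final

end Cfsg.Agent.H743.EP.TwF

namespace Cfsg.Agent.H743.EP

open Cfsg Cfsg.Agent.H892.EP

/-- the row of `²F₄(q)` in S4929 -/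
theorem row_tf4 : SpRow fun K => Lie.Iso2F4 K := by
  intro K _ _ _ h
  obtain ⟨F, i1, i2, m, hm, hF, ⟨e⟩⟩ := h
  exact (TwF.ev_twF4 hm hF).tr e.symm

end Cfsg.Agent.H743.EP
end

private theorem dce_3d6116e7217e : _root_.True := by
  try have : _root_.True := by simp only [_root_.Cfsg.Agent.H114.StRegular.stabRes.congr_simp]
  try have : _root_.True := by simp only [_root_.Cfsg.Agent.H743.EP.tw.eq_1]
  try have : _root_.True := by simp only [_root_.Cfsg.Agent.H743.EP.Vj.eq_1]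
  exact _root_.True.intro
end
end
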